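import Cfsg.Agent.H166.Cov.Defs

/-!
# Cyclic endomorphisms (task C of S2483)

* `coc_iff` : observable iff there is a cyclic vector;
* `Sim.of_coc` : two cyclic endomorphisms with the same characteristic polynomial are similar;
* `exists_coc` : every monic polynomial of degree `dim V` is the characteristic polynomial of a cyclic
  endomorphism of `V`.
-/

set_option autoImplicit false

namespace Cfsg.Agent.H560.CovC

open Module Polynomial Cfsg.Agent.H166.Cov

universe u

variable {F : Type u} [Field F] {V W U : Type u} [AddCommGroup V] [Module F V]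
  [AddCommGroup W] [Module F W] [AddCommGroup U] [Module F U]

/-- `v` is a cyclic vector for `T` -/
def Cyc (T : End F V) (v : V) : Prop := ∀ w : V, ∃ p : F[X], aeval T p v = w

section General

variable {V₁ V₂ : Type u} [AddCommGroup V₁] [Module F V₁] [AddCommGroup V₂] [Module F V₂]

/-- similarity in arbitrary universes -/
def SimG (S : End F V₁) (T : End F V₂) : Prop := ∃ e : V₁ ≃ₗ[F] V₂, ∀ x, e (S x) = T (e x)

theorem SimG.symm {S : End F V₁} {T : End F V₂} (h : SimG S T) : SimG T S := by
  obtain ⟨e, he⟩ := h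
  refine ⟨e.symm, fun x => ?_⟩
  rw [LinearEquiv.symm_apply_eq, he, LinearEquiv.apply_symm_apply]

theorem SimG.trans {V₃ : Type u} [AddCommGroup V₃] [Module F V₃] {S : End F V₁} {T : End F V₂}
    {R : End F V₃} (h : SimG S T) (h' : SimG T R) : SimG S R := by
  obtain ⟨e, he⟩ := h
  obtain ⟨e', he'⟩ := h'
  exact ⟨e.trans e', fun x => by simp [he, he']⟩

theorem aeval_apply_of_comm {S : End F V₁} {T : End F V₂} (e : V₁ →ₗ[F] V₂)
    (he : ∀ x, e (S x) = T (e x)) (p : F[X]) (x : V₁) : e (aeval S p x) = aeval T p (e x) := by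
  induction p using Polynomial.induction_on' with
  | add p q hp hq => simp [hp, hq]
  | monomial n a =>
    rw [← C_mul_X_pow_eq_monomial]
    simp only [map_mul, aeval_C, map_pow, aeval_X, Module.End.mul_apply,
      Module.algebraMap_end_apply, map_smul]
    congr 1
    induction n with
    | zero => simp
    | succ n ih => rw [pow_succ', pow_succ', Module.End.mul_apply, Module.End.mul_apply, he, ih]

theorem SimG.charpoly [FiniteDimensional F V₁] [FiniteDimensional F V₂] {S : End F V₁}
    {T : End F V₂} (h : SimG S T) : LinearMap.charpoly S = LinearMap.charpoly T := by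
  obtain ⟨e, he⟩ := h
  have h1 : e.conj S = T := by
    ext x
    rw [LinearEquiv.conj_apply_apply, he, LinearEquiv.apply_symm_apply]
  rw [← h1, LinearEquiv.charpoly_conj]

end General

/-- multiplication by the root on `F[X]/(f)` -/
noncomputable def rootMul (f : F[X]) : End F (AdjoinRoot f) :=
  LinearMap.mulLeft F (AdjoinRoot.root f)

theorem aeval_rootMul (f p : F[X]) (x : AdjoinRoot f) :
    aeval (rootMul f) p x = AdjoinRoot.mk f p * x := by
  induction p using Polynomial.induction_on' with
  | add p q hp hq => simp [hp, hq, add_mul]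
  | monomial n a =>
    rw [← C_mul_X_pow_eq_monomial]
    simp only [map_mul, aeval_C, map_pow, aeval_X, Module.End.mul_apply,
      Module.algebraMap_end_apply, AdjoinRoot.mk_C, AdjoinRoot.mk_X]
    rw [mul_assoc, Algebra.smul_def, AdjoinRoot.algebraMap_eq]
    congr 1
    induction n with
    | zero => simp
    | succ n ih =>
      rw [pow_succ', Module.End.mul_apply, ih, rootMul, LinearMap.mulLeft_apply, pow_succ', mul_assoc]

theorem finiteDimensional_adjoinRoot {f : F[X]} (hf : f.Monic) :
    FiniteDimensional F (AdjoinRoot f) :=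
  (AdjoinRoot.powerBasis' hf).finite

theorem finrank_adjoinRoot {f : F[X]} (hf : f.Monic) : finrank F (AdjoinRoot f) = f.natDegree := by
  rw [(AdjoinRoot.powerBasis' hf).finrank, AdjoinRoot.powerBasis'_dim]

theorem charpoly_rootMul {f : F[X]} (hf : f.Monic) :
    haveI := finiteDimensional_adjoinRoot hf
    LinearMap.charpoly (rootMul f) = f := by
  haveI := finiteDimensional_adjoinRoot hf
  rw [← LinearMap.charpoly_toMatrix (rootMul f) (AdjoinRoot.powerBasis' hf).basis]
  have h := charpoly_leftMulMatrix (AdjoinRoot.powerBasis' hf)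
  rw [Algebra.leftMulMatrix_apply] at h
  have h2 : minpoly F (AdjoinRoot.powerBasis' hf).gen = f := by
    rw [AdjoinRoot.powerBasis'_gen, AdjoinRoot.minpoly_root hf.ne_zero, hf.leadingCoeff, inv_one,
      C_1, mul_one]
  rw [h2] at h
  exact h

/-- the coefficient of `X ^ (n - 1)` of the remainder -/
noncomputable def topCoeff {f : F[X]} (hf : f.Monic) : AdjoinRoot f →ₗ[F] F :=
  (lcoeff F (f.natDegree - 1)) ∘ₗ AdjoinRoot.modByMonicHom hf

theorem topCoeff_mk {f : F[X]} (hf : f.Monic) (p : F[X]) :
    topCoeff hf (AdjoinRoot.mk f p) = (p %ₘ f).coeff (f.natDegree - 1) := by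
  simp [topCoeff]

theorem obs_topCoeff {f : F[X]} (hf : f.Monic) : Obs (topCoeff hf) (rootMul f) := by
  intro S h0 hS
  have hpow : ∀ k : ℕ, ∀ x ∈ S, AdjoinRoot.root f ^ k * x ∈ S := by
    intro k
    induction k with
    | zero => intro x hx; simpa using hx
    | succ k ih =>
      intro x hx
      rw [pow_succ', mul_assoc]
      exact hS _ (ih x hx)
  rw [Submodule.eq_bot_iff]
  intro x hx
  by_contra hne
  set p : F[X] := AdjoinRoot.modByMonicHom hf x with hpdef
  have hmk : AdjoinRoot.mk f p = x := AdjoinRoot.mk_leftInverse hf x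
  have hp0 : p ≠ 0 := by
    intro h; rw [h, map_zero] at hmk; exact hne hmk.symm
  have hplt : p.natDegree < f.natDegree := by
    have hmod : p = p %ₘ f := by
      rw [hpdef]
      conv_lhs => rw [← hmk, AdjoinRoot.modByMonicHom_mk]
    rw [hmod]
    refine Polynomial.natDegree_modByMonic_lt _ hf ?_
    intro h1
    have : AdjoinRoot.mk f p = 0 := by rw [AdjoinRoot.mk_eq_zero, h1]; exact one_dvd _
    exact hne (hmk ▸ this)
  have h2 := h0 _ (hpow (f.natDegree - 1 - p.natDegree) x hx)
  rw [← hmk, ← AdjoinRoot.mk_X, ← map_pow, ← map_mul, topCoeff_mk] at h2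
  have hdeg : (X ^ (f.natDegree - 1 - p.natDegree) * p).natDegree = f.natDegree - 1 := by
    rw [Polynomial.natDegree_X_pow_mul _ hp0]; omega
  rw [(Polynomial.modByMonic_eq_self_iff hf).mpr] at h2
  · apply hp0
    have h3 : (X ^ (f.natDegree - 1 - p.natDegree) * p).leadingCoeff = 0 := by
      rw [Polynomial.leadingCoeff, hdeg]; exact h2
    rw [Polynomial.leadingCoeff_eq_zero] at h3
    exact (mul_eq_zero.mp h3).resolve_left (pow_ne_zero _ X_ne_zero)
  · apply Polynomial.degree_lt_degree
    rw [hdeg]; omega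

theorem cyc_rootMul (f : F[X]) : Cyc (rootMul f) 1 := by
  intro w
  obtain ⟨p, hp⟩ := AdjoinRoot.mk_surjective w
  exact ⟨p, by rw [aeval_rootMul, mul_one, hp]⟩

/-- a cyclic vector identifies `T` with the multiplication by the root -/
theorem Cyc.simG {V₁ : Type u} [AddCommGroup V₁] [Module F V₁] [FiniteDimensional F V₁]
    {T : End F V₁} {v : V₁} (h : Cyc T v) : SimG (rootMul (LinearMap.charpoly T)) T := by
  have hm : (LinearMap.charpoly T).Monic := LinearMap.charpoly_monic T
  haveI := finiteDimensional_adjoinRoot hm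
  let θ₀ : F[X] →ₗ[F] V₁ := (LinearMap.applyₗ v) ∘ₗ (aeval T : F[X] →ₐ[F] End F V₁).toLinearMap
  have hθ₀ : ∀ p, θ₀ p = aeval T p v := fun p => rfl
  let θ : AdjoinRoot (LinearMap.charpoly T) →ₗ[F] V₁ := θ₀ ∘ₗ AdjoinRoot.modByMonicHom hm
  have hθ : ∀ p, θ (AdjoinRoot.mk _ p) = aeval T p v := by
    intro p
    change θ₀ (AdjoinRoot.modByMonicHom hm (AdjoinRoot.mk _ p)) = _
    rw [AdjoinRoot.modByMonicHom_mk, hθ₀]
    conv_rhs => rw [← Polynomial.modByMonic_add_div p (LinearMap.charpoly T)]
    rw [map_add, map_mul, LinearMap.aeval_self_charpoly, zero_mul, add_zero]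
  have hsurj : Function.Surjective θ := by
    intro w
    obtain ⟨p, hp⟩ := h w
    exact ⟨AdjoinRoot.mk _ p, by rw [hθ, hp]⟩
  have hfr : finrank F (AdjoinRoot (LinearMap.charpoly T)) = finrank F V₁ := by
    rw [finrank_adjoinRoot hm, LinearMap.charpoly_natDegree]
  have hinj : Function.Injective θ :=
    (LinearMap.injective_iff_surjective_of_finrank_eq_finrank hfr).mpr hsurj
  refine ⟨LinearEquiv.ofBijective θ ⟨hinj, hsurj⟩, fun x => ?_⟩
  obtain ⟨p, rfl⟩ := AdjoinRoot.mk_surjective x
  change θ (rootMul _ (AdjoinRoot.mk _ p)) = T (θ (AdjoinRoot.mk _ p))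
  rw [rootMul, LinearMap.mulLeft_apply, ← AdjoinRoot.mk_X, ← map_mul, hθ, hθ, map_mul, aeval_X,
    Module.End.mul_apply]

theorem Cyc.of_simG {V₁ V₂ : Type u} [AddCommGroup V₁] [Module F V₁] [AddCommGroup V₂] [Module F V₂]
    {S : End F V₁} {T : End F V₂} {v : V₁} (h : Cyc S v) {e : V₁ ≃ₗ[F] V₂}
    (he : ∀ x, e (S x) = T (e x)) : Cyc T (e v) := by
  intro w
  obtain ⟨p, hp⟩ := h (e.symm w)
  refine ⟨p, ?_⟩
  rw [← LinearEquiv.coe_coe, ← aeval_apply_of_comm (e : V₁ →ₗ[F] V₂) he, hp]
  simp

theorem obs_of_simG {V₁ V₂ : Type u} [AddCommGroup V₁] [Module F V₁] [AddCommGroup V₂] [Module F V₂]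
    {S : End F V₁} {T : End F V₂} {φ : V₁ →ₗ[F] F} (h : Obs φ S) {e : V₁ ≃ₗ[F] V₂}
    (he : ∀ x, e (S x) = T (e x)) : Obs (φ ∘ₗ (e.symm : V₂ →ₗ[F] V₁)) T := by
  intro L h0 hL
  have h1 := h (L.comap (e : V₁ →ₗ[F] V₂)) ?_ ?_
  · rw [Submodule.eq_bot_iff] at h1 ⊢
    intro x hx
    have := h1 (e.symm x) (by simpa using hx)
    simpa using this
  · intro x hx
    have := h0 (e x) hx
    simpa using this
  · intro x hx
    change e (S x) ∈ L
    rw [he]
    exact hL _ hx

/-- an observable functional is a cyclic vector for the transposed map -/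
theorem cyc_dualMap [FiniteDimensional F V] {T : End F V} {φ : V →ₗ[F] F} (h : Obs φ T) :
    Cyc (T.dualMap : End F (Module.Dual F V)) φ := by
  have hT : ∀ (p : F[X]) (x : V), (aeval (T.dualMap : End F (Module.Dual F V)) p φ) x
      = φ (aeval T p x) := by
    intro p
    induction p using Polynomial.induction_on' with
    | add p q hp hq => intro x; simp [hp, hq]
    | monomial n a =>
      rw [← C_mul_X_pow_eq_monomial]
      simp only [map_mul, aeval_C, map_pow, aeval_X, Module.End.mul_apply,
        Module.algebraMap_end_apply]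
      intro x
      rw [LinearMap.smul_apply, map_smul]
      congr 1
      induction n generalizing x with
      | zero => simp
      | succ n ih =>
        rw [pow_succ', Module.End.mul_apply, LinearMap.dualMap_apply, ih, pow_succ,
          Module.End.mul_apply]
  let R : F[X] →ₗ[F] Module.Dual F V :=
    (LinearMap.applyₗ φ) ∘ₗ
      (aeval (T.dualMap : End F (Module.Dual F V)) : F[X] →ₐ[F] _).toLinearMap
  have hR : ∀ p x, R p x = φ (aeval T p x) := fun p x => hT p x
  have hbot : (LinearMap.range R).dualCoannihilator = ⊥ := by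
    refine h _ ?_ ?_
    · intro x hx
      rw [Submodule.mem_dualCoannihilator] at hx
      have := hx (R 1) ⟨1, rfl⟩
      rw [hR] at this
      simpa using this
    · intro x hx
      rw [Submodule.mem_dualCoannihilator] at hx ⊢
      rintro _ ⟨p, rfl⟩
      have := hx (R (p * X)) ⟨_, rfl⟩
      rw [hR, map_mul, aeval_X, Module.End.mul_apply] at this
      rw [hR]; exact this
  have htop : LinearMap.range R = ⊤ := by
    have h1 := Subspace.dualCoannihilator_dualAnnihilator_eq (W := LinearMap.range R)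
    rw [← h1, hbot]; simp
  intro w
  have : w ∈ LinearMap.range R := by rw [htop]; trivial
  obtain ⟨p, hp⟩ := this
  exact ⟨p, hp⟩

theorem charpoly_dualMap [FiniteDimensional F V] (T : End F V) :
    LinearMap.charpoly (T.dualMap : End F (Module.Dual F V)) = LinearMap.charpoly T := by
  classical
  let b := Module.finBasis F V
  rw [← LinearMap.charpoly_toMatrix T b, ← LinearMap.charpoly_toMatrix (T.dualMap) b.dualBasis,
    LinearMap.dualMap_def, LinearMap.toMatrix_transpose, Matrix.charpoly_transpose]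

theorem simG_of_dualMap [FiniteDimensional F V] [FiniteDimensional F W] {S : End F V} {T : End F W}
    (h : SimG (S.dualMap : End F (Module.Dual F V)) (T.dualMap : End F (Module.Dual F W))) :
    SimG S T := by
  obtain ⟨e, he⟩ := h
  -- `e.dualMap : W** ≃ V**`
  let g : W ≃ₗ[F] V :=
    (Module.evalEquiv F W).trans (e.dualMap.trans (Module.evalEquiv F V).symm)
  have hg : ∀ (w : W) (f : Module.Dual F V), f (g w) = (e f) w := by
    intro w f
    have h1 : Module.evalEquiv F V (g w) = e.dualMap (Module.evalEquiv F W w) := by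
      simp [g]
    have h2 := congrArg (fun t => t f) h1
    simpa using h2
  refine SimG.symm ⟨g, fun w => ?_⟩
  apply (Module.forall_dual_apply_eq_zero_iff F (g (T w) - S (g w))).mp _ |> sub_eq_zero.mp
  intro f
  rw [map_sub, hg, sub_eq_zero]
  have h1 : f (S (g w)) = (S.dualMap f) (g w) := rfl
  rw [h1, hg, he]
  rfl

theorem Sim.of_coc [FiniteDimensional F V] [FiniteDimensional F W] {S : End F V} {T : End F W}
    (hS : Coc S) (hT : Coc T) (h : LinearMap.charpoly S = LinearMap.charpoly T) : Sim S T := by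
  obtain ⟨φ, hφ⟩ := hS
  obtain ⟨ψ, hψ⟩ := hT
  have h1 := (cyc_dualMap hφ).simG
  have h2 := (cyc_dualMap hψ).simG
  rw [charpoly_dualMap] at h1 h2
  rw [h] at h1
  exact simG_of_dualMap (h1.symm.trans h2)

theorem coc_rootMul {f : F[X]} (hf : f.Monic) : Coc (rootMul f) := ⟨_, obs_topCoeff hf⟩

theorem Coc.of_simG {S : End F V} {T : End F W} (hS : Coc S) (h : SimG S T) : Coc T := by
  obtain ⟨φ, hφ⟩ := hS
  obtain ⟨e, he⟩ := h
  exact ⟨_, obs_of_simG hφ he⟩

theorem coc_iff [FiniteDimensional F V] (T : End F V) :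
    Coc T ↔ ∃ v : V, ∀ w : V, ∃ p : F[X], aeval T p v = w := by
  have hm : (LinearMap.charpoly T).Monic := LinearMap.charpoly_monic T
  have : FiniteDimensional F (AdjoinRoot (LinearMap.charpoly T)) := finiteDimensional_adjoinRoot hm
  constructor
  · intro h
    obtain ⟨e, he⟩ := Sim.of_coc (coc_rootMul hm) h (charpoly_rootMul hm)
    exact ⟨e 1, Cyc.of_simG (cyc_rootMul _) he⟩
  · rintro ⟨v, hv⟩
    exact Coc.of_simG (coc_rootMul hm) (Cyc.simG (T := T) (v := v) hv)

theorem exists_coc [FiniteDimensional F V] {f : F[X]} (hf : f.Monic)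
    (hd : f.natDegree = finrank F V) : ∃ T : End F V, Coc T ∧ LinearMap.charpoly T = f := by
  have : FiniteDimensional F (AdjoinRoot f) := finiteDimensional_adjoinRoot hf
  let e : AdjoinRoot f ≃ₗ[F] V := LinearEquiv.ofFinrankEq _ _ (by rw [finrank_adjoinRoot hf, hd])
  have hs : SimG (rootMul f) (e.conj (rootMul f)) :=
    ⟨e, fun x => by rw [LinearEquiv.conj_apply_apply, LinearEquiv.symm_apply_apply]⟩
  exact ⟨e.conj (rootMul f), Coc.of_simG (coc_rootMul hf) hs, by
    rw [LinearEquiv.charpoly_conj, charpoly_rootMul hf]⟩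

end Cfsg.Agent.H560.CovC
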