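import Cfsg.Agent.H560.CovC

/-!
# Block triangular endomorphisms (task D of S2483)
-/

set_option autoImplicit false

namespace Cfsg.Agent.H560.CovD

open Module Polynomial Cfsg.Agent.H166.Cov Cfsg.Agent.H560.CovC

universe u

variable {F : Type u} [Field F] {V W U : Type u} [AddCommGroup V] [Module F V]
  [AddCommGroup W] [Module F W] [AddCommGroup U] [Module F U]

theorem charpoly_up [FiniteDimensional F U] [FiniteDimensional F W] (P : End F U) (R : W →ₗ[F] U)
    (T : End F W) :
    LinearMap.charpoly (up P R T) = LinearMap.charpoly P * LinearMap.charpoly T := by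
  classical
  let b₁ := Module.finBasis F U
  let b₂ := Module.finBasis F W
  rw [← LinearMap.charpoly_toMatrix P b₁, ← LinearMap.charpoly_toMatrix T b₂,
    ← LinearMap.charpoly_toMatrix (up P R T) (b₁.prod b₂)]
  have h : LinearMap.toMatrix (b₁.prod b₂) (b₁.prod b₂) (up P R T) =
      Matrix.fromBlocks (LinearMap.toMatrix b₁ b₁ P) (LinearMap.toMatrix b₂ b₁ R) 0
        (LinearMap.toMatrix b₂ b₂ T) := by
    ext i j
    rcases i with i | i <;> rcases j with j | j <;>
      simp [LinearMap.toMatrix_apply, up_apply]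
  rw [h, Matrix.charpoly_fromBlocks_zero₂₁]

/-- powers of `up` on the first factor -/
theorem aeval_up_fst (P : End F U) (R : W →ₗ[F] U) (T : End F W) (p : F[X]) (x : U) :
    aeval (up P R T) p (x, 0) = (aeval P p x, 0) := by
  have h := aeval_apply_of_comm (S := P) (T := up P R T) (LinearMap.inl F U W)
    (fun x => by simp) p x
  simpa using h.symm

theorem aeval_up_snd (P : End F U) (R : W →ₗ[F] U) (T : End F W) (p : F[X]) (x : U × W) :
    (aeval (up P R T) p x).2 = aeval T p x.2 := by
  have h := aeval_apply_of_comm (S := up P R T) (T := T) (LinearMap.snd F U W)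
    (fun x => by simp) p x
  simpa using h

/-- a vector generating the first factor and projecting to a cyclic vector is cyclic -/
theorem cyc_up {P : End F U} {R : W →ₗ[F] U} {T : End F W} {u : U} {w : W} (hu : Cyc P u)
    (hw : Cyc T w) {v : U × W} {p q : F[X]} (h1 : aeval (up P R T) p v = (u, 0))
    (h2 : (aeval (up P R T) q v).2 = w) : Cyc (up P R T) v := by
  rintro ⟨x, y⟩
  obtain ⟨r, hr⟩ := hw y
  obtain ⟨s, hs⟩ := hu (x - (aeval (up P R T) (r * q) v).1)
  refine ⟨r * q + s * p, ?_⟩
  rw [map_add, LinearMap.add_apply, map_mul (aeval (up P R T)) s p, Module.End.mul_apply, h1,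
    aeval_up_fst, hs]
  have h3 : (aeval (up P R T) (r * q) v).2 = y := by
    rw [map_mul, Module.End.mul_apply, aeval_up_snd, h2, hr]
  ext
  · simp
  · simpa using h3

theorem Coc.up [FiniteDimensional F U] [FiniteDimensional F W] {P : End F U} (R : W →ₗ[F] U)
    {T : End F W} (hP : Coc P) (hT : Coc T)
    (h : IsCoprime (LinearMap.charpoly P) (LinearMap.charpoly T)) :
    Coc (Cfsg.Agent.H166.Cov.up P R T) := by
  obtain ⟨u, hu⟩ := (coc_iff P).mp hP
  obtain ⟨w, hw⟩ := (coc_iff T).mp hT
  obtain ⟨a, b, hab⟩ := h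
  -- `b χ_T` is the identity on `U`
  have hid : ∀ x : U, aeval P (b * LinearMap.charpoly T) x = x := by
    intro x
    have h1 : b * LinearMap.charpoly T = 1 - a * LinearMap.charpoly P := by
      rw [← hab]; ring
    rw [h1, map_sub, map_one, map_mul, LinearMap.aeval_self_charpoly, mul_zero, sub_zero]
    rfl
  -- correct `(0, w)` to an element killed by `χ_T`
  have hχ : (aeval (Cfsg.Agent.H166.Cov.up P R T) (LinearMap.charpoly T) (0, w)).2 = 0 := by
    rw [aeval_up_snd, LinearMap.aeval_self_charpoly]; rfl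
  obtain ⟨c, hc⟩ : ∃ c : U,
      aeval (Cfsg.Agent.H166.Cov.up P R T) (LinearMap.charpoly T) (0, w) = (c, 0) :=
    ⟨_, Prod.ext rfl hχ⟩
  let y : U := - aeval P b c
  have hy : aeval (Cfsg.Agent.H166.Cov.up P R T) (LinearMap.charpoly T) (y, w) = 0 := by
    have h1 : ((y, w) : U × W) = (y, 0) + (0, w) := by simp
    rw [h1, map_add, hc, aeval_up_fst]
    have h2 : aeval P (LinearMap.charpoly T) y = - c := by
      rw [map_neg, neg_inj]
      rw [← Module.End.mul_apply, ← map_mul, mul_comm]
      exact hid c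
    rw [h2]; simp
  refine (coc_iff _).mpr ⟨(u, 0) + (y, w), ?_⟩
  refine cyc_up (p := b * LinearMap.charpoly T) (q := 1) hu hw ?_ ?_
  · rw [map_add, aeval_up_fst, hid, map_mul (aeval (Cfsg.Agent.H166.Cov.up P R T)),
      Module.End.mul_apply, hy, map_zero, add_zero]
  · simp

theorem topCoeff_root_pow {g : F[X]} (hg : g.Monic) {i : ℕ} (hi : i < g.natDegree) :
    topCoeff hg (AdjoinRoot.root g ^ i) = if i = g.natDegree - 1 then 1 else 0 := by
  rw [← AdjoinRoot.mk_X, ← map_pow, topCoeff_mk]
  rw [(Polynomial.modByMonic_eq_self_iff hg).mpr]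
  · rw [coeff_X_pow]
    simp [eq_comm]
  · rw [degree_X_pow, degree_eq_natDegree hg.ne_zero]
    exact_mod_cast hi

/-- the model of `F[X]/(f g)` as an extension of `F[X]/(g)` by `F[X]/(f)` -/
noncomputable def glue {f g : F[X]} (hg : g.Monic) : AdjoinRoot g →ₗ[F] AdjoinRoot f :=
  (topCoeff hg).smulRight (1 : AdjoinRoot f)

theorem coc_glue {f g : F[X]} (hf : f.Monic) (hg : g.Monic) :
    Coc (up (rootMul f) (glue (f := f) hg) (rootMul g)) := by
  have : FiniteDimensional F (AdjoinRoot f) := finiteDimensional_adjoinRoot hf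
  have : FiniteDimensional F (AdjoinRoot g) := finiteDimensional_adjoinRoot hg
  rw [coc_iff]
  set M := up (rootMul f) (glue (f := f) hg) (rootMul g) with hM
  rcases Nat.eq_zero_or_pos g.natDegree with h0 | hpos
  · -- `g = 1`
    have hsub : Subsingleton (AdjoinRoot g) := by
      have : finrank F (AdjoinRoot g) = 0 := by rw [finrank_adjoinRoot hg, h0]
      exact Module.finrank_zero_iff.mp this
    refine ⟨(1, 0), cyc_up (u := 1) (w := 1) (p := 1) (q := 1) (cyc_rootMul f) (cyc_rootMul g) ?_ ?_⟩
    · simp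
    · exact Subsingleton.elim _ _
  · refine ⟨(0, 1), cyc_up (u := 1) (w := 1) (p := g) (q := 1) (cyc_rootMul f) (cyc_rootMul g)
      ?_ (by simp)⟩
    have hpow : ∀ i, i < g.natDegree →
        (M ^ i) (0, 1) = ((0 : AdjoinRoot f), AdjoinRoot.root g ^ i) := by
      intro i
      induction i with
      | zero => intro _; simp
      | succ i ih =>
        intro hi
        rw [pow_succ', Module.End.mul_apply, ih (by omega), hM, up_apply]
        ext
        · simp only [map_zero, zero_add]
          rw [glue, LinearMap.smulRight_apply, topCoeff_root_pow hg (by omega),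
            if_neg (by omega), zero_smul]
        · simp only [rootMul, LinearMap.mulLeft_apply]
          rw [pow_succ']
    have htop : (M ^ g.natDegree) (0, 1) = ((1 : AdjoinRoot f), AdjoinRoot.root g ^ g.natDegree) := by
      obtain ⟨n, hn⟩ : ∃ n, g.natDegree = n + 1 := ⟨g.natDegree - 1, by omega⟩
      rw [hn, pow_succ', Module.End.mul_apply, hpow n (by omega), hM, up_apply]
      ext
      · simp only [map_zero, zero_add]
        rw [glue, LinearMap.smulRight_apply, topCoeff_root_pow hg (by omega),
          if_pos (by omega), one_smul]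
      · simp only [rootMul, LinearMap.mulLeft_apply]
        rw [pow_succ']
    have hsum : ∀ (h : F[X]), h.natDegree < g.natDegree →
        aeval M h ((0 : AdjoinRoot f), (1 : AdjoinRoot g)) = (0, aeval (AdjoinRoot.root g) h) := by
      intro h hh
      rw [Polynomial.aeval_eq_sum_range, Polynomial.aeval_eq_sum_range, LinearMap.sum_apply]
      have : ∀ i ∈ Finset.range (h.natDegree + 1), (h.coeff i • M ^ i) (0, 1) =
          ((0 : AdjoinRoot f), h.coeff i • AdjoinRoot.root g ^ i) := by
        intro i hi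
        rw [Finset.mem_range] at hi
        rw [LinearMap.smul_apply, hpow i (by omega)]
        simp
      rw [Finset.sum_congr rfl this]
      ext
      · simp [Prod.fst_sum]
      · simp [Prod.snd_sum]
    -- split off the leading term
    have hsplit : g = X ^ g.natDegree + (g - X ^ g.natDegree) := by ring
    have hroot : aeval (AdjoinRoot.root g) g = 0 := by
      rw [AdjoinRoot.aeval_eq, AdjoinRoot.mk_self]
    have hlt : (g - X ^ g.natDegree).natDegree < g.natDegree := by
      by_cases hz : g - X ^ g.natDegree = 0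
      · rw [hz]; simpa using hpos
      · refine Polynomial.natDegree_lt_natDegree hz ?_
        have h1 : (g - X ^ g.natDegree).degree < g.degree := by
          refine Polynomial.degree_sub_lt_left ?_ hg.ne_zero ?_
          · rw [degree_X_pow, degree_eq_natDegree hg.ne_zero]
          · rw [leadingCoeff_X_pow, hg.leadingCoeff]
        exact h1
    have h2 : aeval M g ((0 : AdjoinRoot f), (1 : AdjoinRoot g)) =
        aeval M (X ^ g.natDegree : F[X]) (0, 1) + aeval M (g - X ^ g.natDegree : F[X]) (0, 1) := by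
      have h4 : aeval M g = aeval M (X ^ g.natDegree : F[X]) + aeval M (g - X ^ g.natDegree : F[X]) := by
        exact (congrArg (aeval M) hsplit).trans (map_add (aeval M) _ _)
      rw [h4, LinearMap.add_apply]
    rw [h2, hsum _ hlt, map_pow, aeval_X, htop]
    ext
    · simp
    · simp only [Prod.snd_add]
      have h3 : aeval (AdjoinRoot.root g) g = AdjoinRoot.root g ^ g.natDegree +
          aeval (AdjoinRoot.root g) (g - X ^ g.natDegree) := by
        refine (congrArg (aeval (AdjoinRoot.root g)) hsplit).trans ?_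
        rw [map_add, map_pow, aeval_X]
      rw [← h3, hroot]

theorem exists_up [FiniteDimensional F V] {T : End F V} (hT : Coc T) {f g : F[X]} (hf : f.Monic)
    (hg : g.Monic) (h : LinearMap.charpoly T = f * g) :
    ∃ (P : End F (Fin f.natDegree → F)) (R : (Fin g.natDegree → F) →ₗ[F] (Fin f.natDegree → F))
      (T' : End F (Fin g.natDegree → F)), Sim T (Cfsg.Agent.H166.Cov.up P R T') ∧ Coc P ∧
      LinearMap.charpoly P = f ∧ Coc T' ∧ LinearMap.charpoly T' = g := by
  have : FiniteDimensional F (AdjoinRoot f) := finiteDimensional_adjoinRoot hf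
  have : FiniteDimensional F (AdjoinRoot g) := finiteDimensional_adjoinRoot hg
  let e₁ : AdjoinRoot f ≃ₗ[F] (Fin f.natDegree → F) :=
    LinearEquiv.ofFinrankEq _ _ (by rw [finrank_adjoinRoot hf, Module.finrank_fin_fun])
  let e₂ : AdjoinRoot g ≃ₗ[F] (Fin g.natDegree → F) :=
    LinearEquiv.ofFinrankEq _ _ (by rw [finrank_adjoinRoot hg, Module.finrank_fin_fun])
  let P := e₁.conj (rootMul f)
  let T' := e₂.conj (rootMul g)
  let R : (Fin g.natDegree → F) →ₗ[F] (Fin f.natDegree → F) :=
    (e₁ : AdjoinRoot f →ₗ[F] _) ∘ₗ (glue (f := f) hg) ∘ₗ (e₂.symm : _ →ₗ[F] AdjoinRoot g)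
  have hPs : SimG (rootMul f) P :=
    ⟨e₁, fun x => by simp [P, LinearEquiv.conj_apply_apply]⟩
  have hTs : SimG (rootMul g) T' :=
    ⟨e₂, fun x => by simp [T', LinearEquiv.conj_apply_apply]⟩
  have hM : SimG (up (rootMul f) (glue (f := f) hg) (rootMul g)) (up P R T') := by
    refine ⟨e₁.prodCongr e₂, fun x => ?_⟩
    ext1
    · simp [P, R, LinearEquiv.conj_apply_apply]
    · simp [T', LinearEquiv.conj_apply_apply]
  refine ⟨P, R, T', ?_, Coc.of_simG (coc_rootMul hf) hPs, ?_, Coc.of_simG (coc_rootMul hg) hTs, ?_⟩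
  · refine Sim.of_coc hT (Coc.of_simG (coc_glue hf hg) hM) ?_
    rw [h, charpoly_up, LinearEquiv.charpoly_conj, LinearEquiv.charpoly_conj, charpoly_rootMul hf,
      charpoly_rootMul hg]
  · rw [LinearEquiv.charpoly_conj, charpoly_rootMul hf]
  · rw [LinearEquiv.charpoly_conj, charpoly_rootMul hg]

end Cfsg.Agent.H560.CovD
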