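import Cfsg.Agent.H651.Two.Row
import Cfsg.Agent.H816.IMM

/-!
# The Monster: two characters of degree divisible by `p` (FactTwo, helper560)

From the degrees of `Cfsg.Agent.H816.IMM`.
-/

set_option autoImplicit false

namespace Cfsg.Agent.H560.TwoM

open Cfsg Cfsg.Agent.H596.OneFacts Cfsg.Agent.H651.Two Cfsg.Agent.H816

universe u

/-- the known degrees -/
def degs : List ℕ := [196883, 842609326, 18538750076, 36173193327999, 1109944460516150,
  251098487132187500, 49609712911192813665, 47377503606648784400]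

theorem deg_of {S : Type u} [Group S] {n : ℕ} (hn : ∃ χ : S → ℂ, IsIrrCharacter S χ ∧ χ 1 = (n : ℂ)) :
    ∃ χ : IrrCharacter S, charDegree (χ : S → ℂ) = n := by
  obtain ⟨χ, h1, h2⟩ := hn
  exact ⟨⟨χ, h1⟩, H670.PSing.charDegree_eq_of h2⟩

theorem deg_m {S : Type u} [Group S] (h : Spor.IsoM S) : ∀ n ∈ degs,
    ∃ χ : IrrCharacter S, charDegree (χ : S → ℂ) = n := by
  intro n hn
  simp only [degs, List.mem_cons, List.not_mem_nil, or_false] at hn
  rcases hn with rfl | rfl | rfl | rfl | rfl | rfl | rfl | rfl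
  · exact deg_of (by simpa using IMM.exists_chi_196883 h)
  · exact deg_of (by simpa using IMM.exists_chi_842609326 h)
  · exact deg_of (by simpa using IMM.exists_chi_18538750076 h)
  · exact deg_of (by simpa using IMM.exists_chi_36173193327999 h)
  · exact deg_of (by simpa using IMM.exists_chi_1109944460516150 h)
  · exact deg_of (by simpa using IMM.exists_chi_251098487132187500 h)
  · exact deg_of (by simpa using IMM.exists_chi_49609712911192813665 h)
  · exact deg_of (by simpa using IMM.exists_chi_47377503606648784400 h)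

theorem exists_two : ∀ p ∈ ([2, 3, 5, 7, 11, 13, 17, 19, 23, 29, 31, 41, 47, 59, 71] : List ℕ),
    ∃ a ∈ degs, ∃ b ∈ degs, p ∣ a ∧ p ∣ b ∧ a ≠ b := by
  decide +kernel

/-- **The row `M`.** -/
theorem two_m {S : Type u} [Group S] (h : Cfsg.Spor.IsoM S) {p : ℕ} [hp : Fact p.Prime]
    (hd : p ∣ Nat.card S) : TwoOr p S := by
  rw [IMM.card_eq h] at hd
  obtain ⟨a, ha, b, hb, h1, h2, h3⟩ := exists_two p (IMM.prime_mem hp.out hd)
  exact .inl (two_of_degs (deg_m h a ha) (deg_m h b hb) h1 h2 h3)

end Cfsg.Agent.H560.TwoM
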