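import Cfsg.Agent.H508.KB.Defs
import Cfsg.Agent.H464.ExtRows
import Cfsg.Agent.H139.RealB0.Crit
import Cfsg.Agent.S0190

/-!
# `ExtB` from rank 3 permutation characters (S4822, task KB7, helper560)

* `extB_of_r3` : `S` acts with rank 3 on `Ω`, `p ∣ |Ω|`, every automorphism of `S` is intertwined by a permutation of `Ω`
  preserving the relation: every almost simple group with socle `S` has a character in the principal block with
  irreducible nontrivial restriction to `S`;
* `extB_plus`, `extB_minus`, `extB_odd` : the orthogonal groups, `p` divides the number of singular points.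
-/

set_option autoImplicit false
set_option linter.unusedSectionVars false

open scoped ComplexConjugate
open Cfsg

namespace Cfsg.Agent.H560.KBExt

open Subgroup Cfsg.Agent.H508.KB Cfsg.Agent.Characters.Core Cfsg.Agent.H690.Spor.RankThree
open Cfsg.Agent.H464.ExtR3

universe u v w x

/-- restriction to a subgroup given by a homomorphism, of the two constituents of a rank 3 character -/
theorem irr_restrict {A : Type u} [Group A] [Fintype A] {S : Type v} [Group S] [Fintype S] (f : S →* A) {Ω : Type w}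
    [Finite Ω] [MulAction A Ω] [MulAction S Ω] (hact : ∀ (s : S) (x : Ω), f s • x = s • x) {R : Ω → Ω → Prop} {k l : ℕ}
    (hS : R3 S Ω R k l) {ψ₁ ψ₂ : IrrCharacter A}
    (h : ∀ a : A, (Nat.card (MulAction.fixedBy Ω a) : ℂ) = 1 + (ψ₁ : A → ℂ) a + (ψ₂ : A → ℂ) a) :
    IsIrrCharacter S (fun s => (ψ₁ : A → ℂ) (f s)) ∧ ∃ s : S, (ψ₁ : A → ℂ) (f s) ≠ 1 := by
  classical
  have := Fintype.ofFinite Ω
  have c1 : IsCharacter S (fun s => (ψ₁ : A → ℂ) (f s)) := isCharacter_comp f (isIrr_isCharacter ψ₁.2)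
  have c2 : IsCharacter S (fun s => (ψ₂ : A → ℂ) (f s)) := isCharacter_comp f (isIrr_isCharacter ψ₂.2)
  have hfix : ∀ s : S, Nat.card (MulAction.fixedBy Ω (f s)) = Nat.card (MulAction.fixedBy Ω s) := by
    intro s
    refine Nat.card_congr (Equiv.subtypeEquivRight fun x => ?_)
    rw [MulAction.mem_fixedBy, MulAction.mem_fixedBy, hact]
  have hsum : (fun s : S => (Nat.card (MulAction.fixedBy Ω s) : ℂ) - 1) =
      (fun s => (ψ₁ : A → ℂ) (f s)) + (fun s => (ψ₂ : A → ℂ) (f s)) := by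
    funext s
    rw [← hfix, h]
    show _ = (ψ₁ : A → ℂ) (f s) + (ψ₂ : A → ℂ) (f s)
    ring
  have hn := hS.norm_two
  rw [hsum, classInner_add_left, classInner_add_right, classInner_add_right] at hn
  obtain ⟨a, ha⟩ := classInner_isNat c1 c1
  obtain ⟨b, hb⟩ := classInner_isNat c1 c2
  obtain ⟨c, hc⟩ := classInner_isNat c2 c1
  obtain ⟨d, hd⟩ := classInner_isNat c2 c2
  rw [ha, hb, hc, hd] at hn
  have hn' : a + b + (c + d) = 2 := by exact_mod_cast hn
  have hpos : ∀ {χ : S → ℂ} {n : ℕ}, IsCharacter S χ → χ 1 ≠ 0 → classInner χ χ = n → n ≠ 0 := by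
    intro χ n _ h1 hχ hn0
    rw [hn0, Nat.cast_zero] at hχ
    exact h1 (by rw [classInner_self_eq_zero hχ]; rfl)
  have h1 : (fun s : S => (ψ₁ : A → ℂ) (f s)) 1 ≠ 0 := by
    show (ψ₁ : A → ℂ) (f 1) ≠ 0
    rw [map_one]
    exact isIrr_apply_one_ne_zero ψ₁.2
  have h2 : (fun s : S => (ψ₂ : A → ℂ) (f s)) 1 ≠ 0 := by
    show (ψ₂ : A → ℂ) (f 1) ≠ 0
    rw [map_one]
    exact isIrr_apply_one_ne_zero ψ₂.2
  have ha0 := hpos c1 h1 ha
  have hd0 := hpos c2 h2 hd
  have ha1 : a = 1 := by omega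
  refine ⟨isIrr_of_classInner_self c1 (by rw [ha, ha1, Nat.cast_one]), ?_⟩
  by_contra hcon
  push Not at hcon
  have hone : (fun s : S => (ψ₁ : A → ℂ) (f s)) = 1 := funext hcon
  have := hS.trans
  have hπ1 : classInner (fun s : S => (Nat.card (MulAction.fixedBy Ω s) : ℂ) - 1) 1 = 0 := by
    have hsub : (fun g : S => (Nat.card (MulAction.fixedBy Ω g) : ℂ) - 1) =
        (fun g : S => (Nat.card (MulAction.fixedBy Ω g) : ℂ)) - 1 := rfl
    have h11 : classInner (1 : S → ℂ) 1 = 1 := classInner_irr_self isIrr_one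
    have h3 : classInner (fun g : S => (Nat.card (MulAction.fixedBy Ω g) : ℂ)) 1 = 1 := by
      have h4 := Cfsg.Agent.S0157.avg_fixedBy (G := S) Ω
      have hne : Nonempty Ω := by
        rw [← Finite.card_pos_iff]
        have := hS.cardn
        omega
      rw [Cfsg.Agent.S0157.card_orbits_of_pretransitive S Ω] at h4
      simpa [classInner] using h4
    rw [hsub, classInner_sub_left, h3, h11, sub_self]
  rw [hsum, classInner_add_left, hone] at hπ1
  obtain ⟨e, he⟩ := classInner_isNat c2 (isCharacter_one (G := S))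
  rw [he, classInner_irr_self isIrr_one] at hπ1
  have : ((1 + e : ℕ) : ℂ) = 0 := by push_cast; exact hπ1
  rw [Nat.cast_eq_zero] at this
  omega

/-- **`ExtB` from a rank 3 action.** -/
theorem extB_of_r3 {p : ℕ} {M : Ideal AlgInt} (hM : IsPModular p M) {S : Type u} [Group S] [Finite S] {Ω : Type v}
    [Finite Ω] [MulAction S Ω] {R : Ω → Ω → Prop} {k l : ℕ} (h : R3 S Ω R k l) (hk : 1 < k) (hl : 1 < l)
    (hA : ∀ α : MulAut S, ∃ σ : Equiv.Perm Ω, Tw α σ ∧ ∀ x y, R (σ x) (σ y) ↔ R x y) (hp : p ∣ Nat.card Ω) :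
    ExtB p M S := by
  classical
  intro A _ _ f hf hN hcen hcop
  have := Fintype.ofFinite A
  have := Fintype.ofFinite S
  have := Fintype.ofFinite Ω
  let e : S ≃* f.range := MonoidHom.ofInjective hf
  let φ : A →* MulAut S := (MulAut.congr e.symm).toMonoidHom.comp (MulAut.conjNormal (H := f.range))
  have hφ : ∀ (a : A) (s : S), f (φ a s) = a * f s * a⁻¹ := by
    intro a s
    have h1 : ∀ y : f.range, f (e.symm y) = y := fun y => congrArg Subtype.val (e.apply_symm_apply y)
    show f (e.symm (MulAut.conjNormal a (e s))) = _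
    rw [h1]
    rfl
  have hφS : ∀ s : S, φ (f s) = MulAut.conj s := by
    intro s
    apply MulEquiv.ext
    intro t
    apply hf
    rw [hφ, MulAut.conj_apply, map_mul, map_mul, map_inv]
  choose σ hσ hσ' using fun a : A => hA (φ a)
  have hsep := sep_of_r3 h hk hl
  let g : A →* Equiv.Perm Ω :=
    { toFun := σ
      map_one' := by
        refine Tw.eq hsep (hσ 1) ?_
        rw [map_one]
        exact Tw.one
      map_mul' := fun a b => by
        refine Tw.eq hsep (hσ (a * b)) ?_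
        rw [map_mul]
        exact (hσ a).mul (hσ b) }
  let _ : MulAction A Ω := MulAction.compHom Ω g
  have hact : ∀ (a : A) (x : Ω), a • x = σ a x := fun _ _ => rfl
  have hactS : ∀ (s : S) (x : Ω), f s • x = s • x := by
    intro s x
    have h1 : σ (f s) = (MulAction.toPerm s : Equiv.Perm Ω) := by
      refine Tw.eq hsep (hσ (f s)) ?_
      rw [hφS]
      exact tw_conj s
    rw [hact, h1, MulAction.toPerm_apply]
  have hR : R3 A Ω R k l :=
    { trans := ⟨fun x y => by
        obtain ⟨s, hs⟩ := h.trans.exists_smul_eq x y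
        exact ⟨f s, by rw [hactS, hs]⟩⟩
      symm := h.symm
      irr := h.irr
      inv := fun a x y hxy => by
        rw [hact, hact, hσ']
        exact hxy
      one := fun x y x' y' h1 h2 => by
        obtain ⟨s, h3, h4⟩ := h.one x y x' y' h1 h2
        exact ⟨f s, by rw [hactS, h3], by rw [hactS, h4]⟩
      two := fun x y x' y' h1 h2 h1' h2' => by
        obtain ⟨s, h3, h4⟩ := h.two x y x' y' h1 h2 h1' h2'
        exact ⟨f s, by rw [hactS, h3], by rw [hactS, h4]⟩
      cardk := h.cardk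
      k0 := h.k0
      l0 := h.l0
      cardn := h.cardn }
  have htr := hR.trans
  have hne : Nonempty Ω := by
    rw [← Finite.card_pos_iff]
    have := h.cardn
    omega
  obtain ⟨x0⟩ := hne
  have hidx : (MulAction.stabilizer A x0).index = Nat.card Ω := MulAction.index_stabilizer_of_transitive A x0
  obtain ⟨ψ, hψB, hψ1, hψs⟩ := Cfsg.Agent.H139.RealB0.Crit.exists_constituent hM (MulAction.stabilizer A x0)
    (by rw [hidx]; exact hp)
  obtain ⟨ψ₁, ψ₂, -, -, -, -, -, hdec, -⟩ := hR.frame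
  have hdec' : ∀ a : A, (Nat.card (MulAction.fixedBy Ω a) : ℂ) = 1 + (ψ₂ : A → ℂ) a + (ψ₁ : A → ℂ) a := by
    intro a
    rw [hdec]
    ring
  -- `ψ` is a constituent of the permutation character
  have hin : classInner (fun a : A => (Nat.card (MulAction.fixedBy Ω a) : ℂ)) (ψ : A → ℂ) ≠ 0 := by
    rw [Cfsg.Agent.S0190.result Ω x0, Cfsg.Agent.Characters.Brauer.classInner_indFun _ _ _ _
      (isIrr_isClassFunction ψ.2)]
    intro h0
    apply hψs
    unfold classInner at h0
    have h1 : ((Nat.card (MulAction.stabilizer A x0) : ℂ))⁻¹ ≠ 0 := inv_ne_zero (Nat.cast_ne_zero.2 Nat.card_pos.ne')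
    have h2 := (mul_eq_zero.1 h0).resolve_left h1
    simp only [one_mul] at h2
    have h3 := congrArg conj h2
    rw [map_sum, map_zero] at h3
    simpa using h3
  have hψ : ψ = ψ₁ ∨ ψ = ψ₂ := by
    by_contra hcon
    push Not at hcon
    apply hin
    have e1 : (fun a : A => (Nat.card (MulAction.fixedBy Ω a) : ℂ)) = 1 + (ψ₁ : A → ℂ) + (ψ₂ : A → ℂ) := by
      funext a
      rw [hdec]
      rfl
    rw [e1, classInner_add_left, classInner_add_left,
      classInner_irr_ne isIrr_one ψ.2 (fun h1 => hψ1 (by rw [← h1]; rfl)),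
      classInner_irr_ne ψ₁.2 ψ.2 (fun h1 => hcon.1 (Subtype.ext h1.symm)),
      classInner_irr_ne ψ₂.2 ψ.2 (fun h1 => hcon.2 (Subtype.ext h1.symm))]
    ring
  have key := hψ.elim (fun h1 => h1 ▸ irr_restrict f hactS h hdec) (fun h1 => h1 ▸ irr_restrict f hactS h hdec')
  exact ⟨ψ, hψB, key⟩


section Form

open Cfsg.Agent.H576.Ext Cfsg.Agent.H477.HC Cfsg.Agent.H477.HC.CForm Cfsg.Agent.H53.HC Module

variable {K : Type u} [Field K] {V : Type v} [AddCommGroup V] [Module K V] {F : CForm K V} {N : Subgroup F.iso}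
  {S : Type w} [Group S] {X : Type x} [AddCommGroup X] [Module K X] {F' : CForm K X} {e f : V} {j : X →ₗ[K] V}

/-- `ExtB` for the groups of isometries of a polar space -/
theorem extB_of_hyp {p : ℕ} {M : Ideal AlgInt} (hM : IsPModular p M) [FiniteDimensional K V] [Finite V] [Finite K]
    [Finite X] [Finite S] (h : Hyp F F' e f j) {P P' : ℕ} (hP : 2 ≤ P) (hP' : 1 ≤ P')
    (hX : Nat.card {x : X // F'.Sing x} = (P - 1) * (P' + 1) + 1)
    (hV : Nat.card {v : V // F.Sing v} = (Nat.card K * P - 1) * (Nat.card K * P' + 1) + 1)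
    (hH : ∀ (g : F.iso) (x y : F.Pt), ∃ h ∈ N, h • x = g • x ∧ h • y = g • y)
    (D : SemiQ F N S) (hA : ∀ α : MulAut S, ∃ s : Semi F, D.Ind s α)
    (hp : p.Prime) (hpd : p ∣ (Nat.card K * P - 1) * (Nat.card K * P' + 1)) (hpq : ¬ p ∣ Nat.card K - 1) :
    ExtB p M S := by
  classical
  have hq : 1 < Nat.card K := Finite.one_lt_card
  obtain ⟨q, hq'⟩ : ∃ q, q = Nat.card K := ⟨_, rfl⟩
  obtain ⟨n, hn⟩ : ∃ n, n = Nat.card F'.Pt := ⟨_, rfl⟩
  have hb := card_sing (F := F')
  have hb2 := card_sing (F := F)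
  rw [← hn] at hb
  rw [← hq'] at hq hV hb hb2 hpd hpq
  have hb1 : (q - 1) * n = (P - 1) * (P' + 1) := by
    rw [hX] at hb
    exact Nat.add_right_cancel hb
  have hn0 : 0 < n := by
    rcases Nat.eq_zero_or_pos n with h0 | h0
    · exfalso
      rw [h0, mul_zero] at hb1
      have : 0 < (P - 1) * (P' + 1) := Nat.mul_pos (by omega) (by omega)
      omega
    · exact h0
  have hpΩ : p ∣ Nat.card F.Pt := by
    rw [hV] at hb2
    have h1 := Nat.add_right_cancel hb2
    rw [← h1] at hpd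
    exact (hp.dvd_mul.1 hpd).resolve_left hpq
  obtain ⟨s, rfl⟩ : ∃ s, q = s + 1 := ⟨q - 1, by omega⟩
  obtain ⟨t, rfl⟩ : ∃ t, P = t + 1 := ⟨P - 1, by omega⟩
  rw [Nat.add_sub_cancel, Nat.add_sub_cancel] at hb1
  have hl : (Nat.card K - 1) * (1 + Nat.card K * n + (s + 1) * ((t + 1) * P')) + 1 = Nat.card {v : V // F.Sing v} := by
    rw [hV, ← hq', Nat.add_sub_cancel]
    have e1 : (s + 1) * (t + 1) - 1 = s * t + s + t := by
      have : (s + 1) * (t + 1) = s * t + s + t + 1 := by ring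
      omega
    rw [e1]
    have e2 : s * (1 + (s + 1) * n + (s + 1) * ((t + 1) * P')) + 1 =
        s + (s + 1) * (s * n) + s * ((s + 1) * ((t + 1) * P')) + 1 := by ring
    rw [e2, hb1]
    ring
  obtain ⟨hr3', x₀, y₀, hxy, hR, hcom⟩ := CForm.r3 h (b := n) (l := (s + 1) * ((t + 1) * P')) (by rw [← hq']; exact hb) hl
    hn0 (by positivity) N hH
  let _ := act D
  have hr3 : R3 S F.Pt F.Rel (Nat.card K * n) ((s + 1) * ((t + 1) * P')) :=
    r3_of_surj D.q (act_q D) D.surj hr3'
  have := Fintype.ofFinite F.Pt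
  have hs1 : 1 ≤ s := by omega
  have hk1 : 1 < Nat.card K * n := by
    rw [← hq']
    nlinarith
  have hl1 : 1 < (s + 1) * ((t + 1) * P') := by
    have : 1 ≤ (t + 1) * P' := Nat.mul_pos (by omega) (by omega)
    nlinarith
  refine extB_of_r3 hM hr3 hk1 hl1 (fun α => ?_) hpΩ
  obtain ⟨s, hs⟩ := hA α
  exact ⟨semiPt s, tw_of_ind D hs, semiPt_rel s⟩

end Form

section rows

open Cfsg.Agent.H576.Ext Cfsg.Agent.H477.HC Cfsg.Agent.H477.HC.CForm Cfsg.Agent.H53.HC Module

variable {K : Type} [Field K] [Finite K] {p : ℕ} {M : Ideal AlgInt}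

/-- transport of the presentation -/
def semiQCongr {V : Type v} [AddCommGroup V] [Module K V] {F : CForm K V} {N : Subgroup F.iso} {S : Type u} [Group S]
    {T : Type w} [Group T] (D : SemiQ F N T) (e : S ≃* T) : SemiQ F N S where
  q := e.symm.toMonoidHom.comp D.q
  surj := e.symm.surjective.comp D.surj
  ker := fun n => by
    rw [← D.ker n]
    show e.symm (D.q n) = 1 ↔ _
    rw [MulEquiv.map_eq_one_iff]
  inv := D.inv

theorem ind_congr {V : Type v} [AddCommGroup V] [Module K V] {F : CForm K V} {N : Subgroup F.iso} {S : Type u} [Group S]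
    {T : Type w} [Group T] (D : SemiQ F N T) (e : S ≃* T) (h : ∀ α : MulAut T, ∃ s : Semi F, D.Ind s α)
    (α : MulAut S) : ∃ s : Semi F, (semiQCongr D e).Ind s α := by
  obtain ⟨s, hs⟩ := h (MulAut.congr e α)
  refine ⟨s, fun n n' hn => ?_⟩
  have h1 := hs n n' hn
  have h2 : MulAut.congr e α (D.q n) = e (α (e.symm (D.q n))) := rfl
  rw [h2] at h1
  show α (e.symm (D.q n)) = e.symm (D.q n')
  rw [← h1, e.symm_apply_apply]

/-- **`ExtB` for `PΩ⁺_{2m}(q)`, `m ≥ 5`**, `p ∣ q^m - 1`. -/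
theorem extB_plus (hM : IsPModular p M) (hp : p.Prime) {S : Type u} [Group S] {m : ℕ} (hm : 5 ≤ m)
    (e : Nonempty (S ≃* POmega K (quadFormPlus m K))) (hpq : ¬ p ∣ Nat.card K - 1)
    (hpm : p ∣ (Nat.card K ^ m - 1) * (Nat.card K ^ (m - 1) + 1)) : ExtB p M S := by
  classical
  obtain ⟨ε⟩ := e
  have hfS : Finite S := Finite.of_equiv _ ε.symm.toEquiv
  have hfin := Fintype.ofFinite K
  have hq : 2 ≤ Nat.card K := Finite.one_lt_card
  obtain ⟨D, hD⟩ := semiQ_plus (K := K) hm
  obtain ⟨n, rfl⟩ : ∃ n, m = n + 2 := ⟨m - 2, by omega⟩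
  obtain ⟨e, f, j, h⟩ := CForm.frm_plus (K := K) (show 1 + (n + 1) = n + 2 by omega)
  obtain ⟨e3, f3, j3, h3⟩ := CForm.frm_plus (K := K) (show 3 + (n - 1) = n + 2 by omega)
  have hc : Fintype.card K = Nat.card K := Nat.card_eq_fintype_card.symm
  have hG : LieClassical.OrthTrans.Good (LieClassical.OrthForms.plusForm (n + 2) K) := by
    apply LieClassical.OrthFinite.good_of_finite (LieClassical.OrthForms.nondeg_plusForm (n + 2) K)
    rw [Module.finrank_fintype_fun_eq_card, Fintype.card_sum, Fintype.card_fin]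
    omega
  have hstab := CForm.om_stab (F := CForm.plusF K (n + 2)) (F' := CForm.plusF K (n - 1)) hG
    (fun v => congrFun (LieClassical.OrthForms.coe_plusForm (n + 2) K) v) (plus_hB K (n + 2)) h3 (fun _ => rfl)
    (fun _ => rfl)
  refine extB_of_hyp hM h.hyp (P := Nat.card K ^ (n + 1))
    (P' := Nat.card K ^ n) (two_le_pow hq (by omega)) (Nat.one_le_pow _ _ (by omega))
    (by
      rw [card_Sing_quad, ← num_plus hq n]
      exact S0289.result hc (n + 1) (by omega))
    (by
      rw [card_Sing_quad, ← pow_succ', ← pow_succ', ← num_plus hq (n + 1)]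
      exact S0289.result hc (n + 2) (by omega))
    hstab (semiQCongr D ε) (ind_congr D ε hD) hp ?_ hpq
  rw [← pow_succ', ← pow_succ']
  exact hpm

/-- **`ExtB` for `PΩ⁻_{2l+2}(q)`, `l ≥ 3`**, `p ∣ q^(l+1) + 1` -/
theorem extB_minus (hM : IsPModular p M) (hp : p.Prime) {S : Type u} [Group S] {a b : K}
    (hab : ∀ z₁ z₂ : K, z₁ ^ 2 + a * z₁ * z₂ + b * z₂ ^ 2 = 0 → z₁ = 0 ∧ z₂ = 0) {l : ℕ} (hl : 3 ≤ l)
    (e : Nonempty (S ≃* POmega K (quadFormMinus l K a b))) (hpq : ¬ p ∣ Nat.card K - 1)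
    (hpm : p ∣ (Nat.card K ^ l - 1) * (Nat.card K ^ (l + 1) + 1)) : ExtB p M S := by
  classical
  obtain ⟨ε⟩ := e
  have hfS : Finite S := Finite.of_equiv _ ε.symm.toEquiv
  have hfin := Fintype.ofFinite K
  have hq : 2 ≤ Nat.card K := Finite.one_lt_card
  obtain ⟨D, hD⟩ := semiQ_minus (K := K) hl hab
  obtain ⟨n, rfl⟩ : ∃ n, l = n + 1 := ⟨l - 1, by omega⟩
  obtain ⟨e, f, j, h⟩ := CForm.frm_minus (K := K) hab (show 1 + n = n + 1 by omega)
  obtain ⟨e3, f3, j3, h3⟩ := CForm.frm_minus (K := K) hab (show 3 + (n - 2) = n + 1 by omega)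
  have hc : Fintype.card K = Nat.card K := Nat.card_eq_fintype_card.symm
  have hG : LieClassical.OrthTrans.Good (LieClassical.OrthForms.minusForm (n + 1) K a b) := by
    apply LieClassical.OrthFinite.good_of_finite (LieClassical.OrthForms.nondeg_minusForm (n + 1) K a b hab)
    rw [Module.finrank_fintype_fun_eq_card, Fintype.card_sum, Fintype.card_sum, Fintype.card_fin, Fintype.card_fin]
    omega
  have hstab := CForm.om_stab (F := CForm.minusF K (n + 1) a b hab) (F' := CForm.minusF K (n - 2) a b hab) hG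
    (fun v => congrFun (LieClassical.OrthForms.coe_minusForm (n + 1) K a b) v) (minus_hB K (n + 1) a b hab) h3
    (fun _ => rfl) (fun _ => rfl)
  refine extB_of_hyp hM h.hyp (P := Nat.card K ^ n)
    (P' := Nat.card K ^ (n + 1)) (two_le_pow hq (by omega)) (Nat.one_le_pow _ _ (by omega))
    (by
      rw [card_Sing_quad, ← num_minus hq n]
      exact S0290.result hc (n + 1) (by omega) a b hab)
    (by
      rw [card_Sing_quad, ← pow_succ', ← pow_succ', ← num_minus hq (n + 1)]
      exact S0290.result hc (n + 2) (by omega) a b hab)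
    hstab (semiQCongr D ε) (ind_congr D ε hD) hp ?_ hpq
  rw [← pow_succ', ← pow_succ']
  exact hpm

/-- **`ExtB` for `PΩ_{2m+1}(q)`, `q` odd, `m ≥ 3`**, `p ∣ q^(2m) - 1` -/
theorem extB_odd (hM : IsPModular p M) (hp : p.Prime) {S : Type u} [Group S] (h2 : (2 : K) ≠ 0)
    (ho : Odd (Nat.card K)) {m : ℕ} (hm : 3 ≤ m)
    (e : Nonempty (S ≃* POmega K (quadFormOdd m K))) (hpq : ¬ p ∣ Nat.card K - 1)
    (hpm : p ∣ (Nat.card K ^ m - 1) * (Nat.card K ^ m + 1)) : ExtB p M S := by
  classical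
  obtain ⟨ε⟩ := e
  have hfS : Finite S := Finite.of_equiv _ ε.symm.toEquiv
  have hfin := Fintype.ofFinite K
  have hq : 2 ≤ Nat.card K := Finite.one_lt_card
  obtain ⟨D, hD⟩ := semiQ_odd (K := K) hm h2
  obtain ⟨n, rfl⟩ : ∃ n, m = n + 1 := ⟨m - 1, by omega⟩
  obtain ⟨e, f, j, h⟩ := CForm.frm_odd (K := K) h2 (show 1 + n = n + 1 by omega)
  obtain ⟨e3, f3, j3, h3⟩ := CForm.frm_odd (K := K) h2 (show 3 + (n - 2) = n + 1 by omega)
  have hc : Fintype.card K = Nat.card K := Nat.card_eq_fintype_card.symm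
  have hG : LieClassical.OrthTrans.Good (LieClassical.OrthForms.oddForm (n + 1) K) := by
    apply LieClassical.OrthFinite.good_of_finite (LieClassical.OrthForms.nondeg_oddForm (n + 1) K h2)
    rw [Module.finrank_fintype_fun_eq_card, Fintype.card_sum, Fintype.card_sum, Fintype.card_fin, Fintype.card_unit]
    omega
  have hstab := CForm.om_stab (F := CForm.oddF K (n + 1) h2) (F' := CForm.oddF K (n - 2) h2) hG
    (fun v => congrFun (LieClassical.OrthForms.coe_oddForm (n + 1) K) v) (odd_hB K (n + 1) h2) h3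
    (fun _ => rfl) (fun _ => rfl)
  refine extB_of_hyp hM h.hyp (P := Nat.card K ^ n)
    (P' := Nat.card K ^ n) (two_le_pow hq (by omega)) (Nat.one_le_pow _ _ (by omega))
    (by
      rw [card_Sing_quad, ← num_odd hq n]
      exact S0291.result hc ho n)
    (by
      rw [card_Sing_quad, ← pow_succ', ← num_odd hq (n + 1)]
      exact S0291.result hc ho (n + 1))
    hstab (semiQCongr D ε) (ind_congr D ε hD) hp ?_ hpq
  rw [← pow_succ']
  exact hpm

end rows

end Cfsg.Agent.H560.KBExt
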