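import Mathlib
import Cfsg.Agent.H264.FKS.TwoRows
import Cfsg.Agent.H851.Dg.Big

/-!
# S5734: subgroups of classical groups with socle in the own characteristic miss a large prime (helper560)

`char_row`: a proper almost simple subgroup `R` of a classical group `T` (of large order) in characteristic `p`, with
socle of Lie type in characteristic `p`, misses a prime `u` with `BigU`, or its Sylow `u`-subgroups are cyclic for some
`u` with `TwoU`. Adapted from the rows of helper264 (`Full` replaced by `Fl`).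
-/

set_option autoImplicit false

namespace Cfsg.Agent.H560.DgChar

open Cfsg Cfsg.Agent.OrdDiv Cfsg.Agent.H436 Cfsg.Agent.H915.GN Cfsg.Agent.H264.GN Cfsg.Agent.H264.FKS
  Cfsg.Agent.H851.Dg

/-! ### orders modulo primes -/

section

variable {q e s : ℕ}

theorem pow_iff (hs : Prim q e s) (hq : 1 ≤ q) (m : ℕ) : ((q : ℕ) : ZMod s) ^ m = 1 ↔ e ∣ m := by
  rw [← hs.dvd_iff, ← ZMod.natCast_eq_zero_iff, Nat.cast_sub (Nat.one_le_pow _ _ hq), Nat.cast_pow, Nat.cast_one,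
    sub_eq_zero]

theorem orderOf_prim (hs : Prim q e s) (hq : 1 ≤ q) : orderOf ((q : ℕ) : ZMod s) = e :=
  Nat.dvd_antisymm (orderOf_dvd_of_pow_eq_one ((pow_iff hs hq e).2 dvd_rfl))
    ((pow_iff hs hq _).1 (pow_orderOf_eq_one _))

theorem neg_pow_iff (hs : Prim q e s) (hq : 1 ≤ q) (h2 : s ≠ 2) (m : ℕ) : (-((q : ℕ) : ZMod s)) ^ m = 1 ↔
    (m % 2 = 0 ∧ e ∣ m) ∨ (m % 2 = 1 ∧ e ∣ 2 * m ∧ ¬ e ∣ m) := by
  have : Fact s.Prime := ⟨hs.prime⟩
  have hne : (2 : ZMod s) ≠ 0 := by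
    intro h
    have h3 : ((2 : ℕ) : ZMod s) = 0 := by exact_mod_cast h
    rw [ZMod.natCast_eq_zero_iff] at h3
    exact h2 ((Nat.prime_dvd_prime_iff_eq hs.prime Nat.prime_two).1 h3)
  rcases Nat.mod_two_eq_zero_or_one m with h | h
  · rw [Even.neg_pow (Nat.even_iff.2 h), pow_iff hs hq]
    constructor
    · intro h1
      exact Or.inl ⟨h, h1⟩
    · rintro (h1 | h1)
      · exact h1.2
      · omega
  · rw [Odd.neg_pow (Nat.odd_iff.2 h), ← pow_iff hs hq (2 * m), ← pow_iff hs hq m, mul_comm 2 m, pow_mul]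
    generalize ((q : ℕ) : ZMod s) ^ m = a
    constructor
    · intro h1
      refine Or.inr ⟨h, ?_, ?_⟩
      · rw [← neg_sq, h1, one_pow]
      · rintro rfl
        apply hne
        have h3 : (1 : ZMod s) - (-1) = 0 := by rw [h1]; ring
        rw [← h3]; ring
    · rintro (h1 | ⟨-, h1, h3⟩)
      · omega
      · rw [pow_two] at h1
        rcases mul_self_eq_one_iff.1 h1 with h4 | h4
        · exact absurd h4 h3
        · rw [h4, neg_neg]

theorem orderOf_neg_of {E : ℕ} (h : ∀ m, (-((q : ℕ) : ZMod s)) ^ m = 1 ↔ E ∣ m) :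
    orderOf (-((q : ℕ) : ZMod s)) = E :=
  Nat.dvd_antisymm (orderOf_dvd_of_pow_eq_one ((h E).2 dvd_rfl)) ((h _).1 (pow_orderOf_eq_one _))

theorem neg_two {N : ℕ} (hs : Prim q (2 * N) s) (hq : 1 ≤ q) (hN : N % 2 = 1) (h2 : s ≠ 2) :
    orderOf (-((q : ℕ) : ZMod s)) = N := by
  refine orderOf_neg_of fun m => ?_
  rw [neg_pow_iff hs hq h2]
  have hco : Nat.Coprime 2 N := Nat.coprime_two_left.2 (Nat.odd_iff.2 hN)
  constructor
  · rintro (h | h)
    · exact (Dvd.intro_left _ rfl).trans h.2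
    · exact Nat.dvd_of_mul_dvd_mul_left (by norm_num) h.2.1
  · intro h
    rcases Nat.mod_two_eq_zero_or_one m with h1 | h1
    · exact Or.inl ⟨h1, hco.mul_dvd_of_dvd_of_dvd (Nat.dvd_of_mod_eq_zero h1) h⟩
    · refine Or.inr ⟨h1, Nat.mul_dvd_mul_left _ h, fun h3 => ?_⟩
      have := (Dvd.intro _ rfl : 2 ∣ 2 * N).trans h3
      omega

theorem neg_four (hs : Prim q e s) (hq : 1 ≤ q) (he : e % 4 = 0) (h2 : s ≠ 2) :
    orderOf (-((q : ℕ) : ZMod s)) = e := by
  refine orderOf_neg_of fun m => ?_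
  rw [neg_pow_iff hs hq h2]
  have h4 : 4 ∣ e := Nat.dvd_of_mod_eq_zero he
  constructor
  · rintro (h | h)
    · exact h.2
    · have := h4.trans h.2.1
      omega
  · intro h
    have := h4.trans h
    exact Or.inl ⟨by omega, h⟩

theorem neg_odd (hs : Prim q e s) (hq : 1 ≤ q) (he : e % 2 = 1) (h2 : s ≠ 2) :
    orderOf (-((q : ℕ) : ZMod s)) = 2 * e := by
  refine orderOf_neg_of fun m => ?_
  rw [neg_pow_iff hs hq h2]
  have hco : Nat.Coprime 2 e := Nat.coprime_two_left.2 (Nat.odd_iff.2 he)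
  constructor
  · rintro (h | h)
    · exact hco.mul_dvd_of_dvd_of_dvd (Nat.dvd_of_mod_eq_zero h.1) h.2
    · exact absurd (hco.symm.dvd_of_dvd_mul_left h.2.1) h.2.2
  · intro h
    have h1 := (Dvd.intro _ rfl : 2 ∣ 2 * e).trans h
    exact Or.inl ⟨by omega, (Dvd.intro_left _ rfl).trans h⟩

end

/-! ### the rows -/

universe u

/-- all large primes divide `|R|`, and `R` has non-cyclic `u`-subgroups for the primes `u` with `TwoU` -/
def Fl (gT : Grp) {T : Type*} [Group T] (R : Subgroup T) : Prop :=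
  (∀ u, BigU gT u → u ∣ Nat.card R) ∧ ∀ u, TwoU gT u → ¬ CycP u R

theorem fl_of_not_out {gT : Grp} {T : Type*} [Group T] {R : Subgroup T} (h : ¬ H851.Dg.Out gT R) : Fl gT R := by
  unfold H851.Dg.Out at h
  push Not at h
  exact ⟨h.1, h.2⟩

theorem twoU_prime : ∀ {gT : Grp} {u : ℕ}, TwoU gT u → u.Prime
  | .psp _ _, _, h => h.1
  | .oodd _ _, _, h => h.1
  | .oplus _ _, _, h => h.1

theorem Fl.two {gT : Grp} {T : Type*} [Group T] [Finite T] {R : Subgroup T} (h : Fl gT R) {u : ℕ} (hu : TwoU gT u) :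
    u ∣ Nat.card R := by
  by_contra h1
  refine h.2 u hu fun P hP => ?_
  have : Fact u.Prime := ⟨twoU_prime hu⟩
  obtain ⟨k, hk⟩ := IsPGroup.iff_card.1 hP
  rcases Nat.eq_zero_or_pos k with rfl | hk0
  · have h2 : P = ⊥ := Subgroup.card_eq_one.1 (by rw [hk, pow_zero])
    rw [h2]
    infer_instance
  · exact absurd (((dvd_pow_self u hk0.ne').trans (hk ▸ dvd_rfl)).trans (Subgroup.card_subgroup_dvd_card P)) h1

theorem IsNamed.lt {gT : Grp} {T : Type*} [Group T] [Finite T] (hT : IsNamed gT T) {b : ℕ} (h : num gT < b)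
    (hd : 0 < den gT) : Nat.card T < b :=
  lt_of_le_of_lt (Nat.le_mul_of_pos_left _ hd) (hT.eq.symm ▸ h)

variable {p f n : ℕ} {g : Grp}

section

variable {T : Type u} [Group T] [Finite T] {R : Subgroup T}

/-- **`T = PSL_n(q)`, `n ≥ 4`.** -/
theorem fl_psl (hT : IsNamed (.psl n (p ^ f)) T) (hp : p.Prime) (hf : 1 ≤ f) (hn : 4 ≤ n)
    (h42 : ¬ (n = 4 ∧ p ^ f = 2)) (hex1 : ¬ (p = 2 ∧ f * n = 6)) (hex2 : ¬ (p = 2 ∧ f * (n - 1) = 6))
    (hR : R ≠ ⊤) (S : Subgroup R) [S.Normal] [IsSimpleGroup S] (hna : ¬ IsMulCommutative S)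
    (hC : Subgroup.centralizer (S : Set R) = ⊥) (hS : IsNamed g S) (hch : HasChar p g)
    (hfull : Fl (.psl n (p ^ f)) R) : False := by
  have hq1 : 1 ≤ p ^ f := Nat.one_le_pow _ _ hp.pos
  have hB : ∀ e, n < 2 * e → e ≤ n → ∀ s, Prim (p ^ f) e s → s ∣ Nat.card R := fun e h1 h2 s hs =>
    hfull.1 s ⟨hs.prime, by rw [orderOf_prim hs hq1]; exact h1, by rw [orderOf_prim hs hq1]; exact h2⟩
  have hrow := charp_psl hp hf hn h42 hex1 hex2 hS.cond hch hS.eq (IsNamed.card_dvd hT S)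
    (HS.of S hna hC hp hS hch (by omega) (hB n (by omega) le_rfl))
    (HS.of S hna hC hp hS hch (by omega) (hB (n - 1) (by omega) (by omega)))
  rcases hrow with rfl | ⟨f₁, h1, h2, rfl⟩
  · exact hR (eq_top_of_name hT hS)
  · have hf₁ : 1 ≤ f₁ := by omega
    refine false_of_index hp (par_psl hp hf hT (by omega)) hR (fun hd => ?_) S hna hC
    have h3 := (kd_ominus hp hn hf₁ hS.eq).pp
    have h4 : p ^ (f * (n * (n - 1) / 2)) ∣ Nat.card R := by
      refine Dvd.dvd.trans ?_ (h3.trans (Subgroup.card_subgroup_dvd_card S))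
      refine pow_dvd_pow p ?_
      rw [← h1]
      have := half n
      calc 2 * f₁ * (n * (n - 1) / 2) = f₁ * (2 * (n * (n - 1) / 2)) := by ring
        _ = f₁ * (n * (n - 1)) := by rw [← this]
        _ ≤ _ := le_rfl
    have h5 : p ^ (f * (n * (n - 1) / 2) + 1) ∣ Nat.card T := by
      rw [← R.card_mul_index, pow_succ]
      exact Nat.mul_dvd_mul h4 hd
    have h6 : Nat.card T ∣ glN n (p ^ f) := by
      have : den (.psl n (p ^ f)) * Nat.card T = glN n (p ^ f) := hT.eq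
      rw [← this]
      exact Dvd.intro_left _ rfl
    have := (td_psl hp hf h6).pp h5
    omega

theorem sp_like (hp : p.Prime) (hf : 1 ≤ f) (hn : 3 ≤ n)
    (hprim : n % 2 = 1 → ∀ s, Prim (p ^ f) n s → s ∣ Nat.card R) (S : Subgroup R) [S.Normal]
    [IsSimpleGroup S] (hna : ¬ IsMulCommutative S)
    (hC : Subgroup.centralizer (S : Set R) = ⊥) (hS : IsNamed g S) (hch : HasChar p g)
    (h : g = .ominus n (p ^ f) ∨ (n = 3 ∧ g = .psu 4 (p ^ f))) : n % 2 = 0 ∧ g = .ominus n (p ^ f) := by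
  have hs : n % 2 = 1 → HS p f n g (Nat.card S) := fun h0 => HS.of S hna hC hp hS hch hn (hprim h0)
  rcases h with rfl | ⟨rfl, rfl⟩
  · refine ⟨?_, rfl⟩
    by_contra h0
    obtain ⟨s, hs1, hs2⟩ := ex_prim (f₁ := f) hp hf (by omega) (by omega) hS.eq rfl (by omega) (hs (by omega))
    exact not_dvd_ominus_odd hs1 (by omega) (by omega) hs2
  · exfalso
    obtain ⟨s, hs1, hs2⟩ := ex_prim (f₁ := f) hp hf (by omega) (by omega) hS.eq rfl (by omega) (hs rfl)
    exact not_dvd_psu_odd hs1 (by norm_num) (by norm_num) (fun i hi1 hi2 hi3 hi4 => by interval_cases i <;> omega) hs2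

/-- **`T = PSp_{2n}(q)`, `n ≥ 3`.** -/
theorem fl_psp (hT : IsNamed (.psp n (p ^ f)) T) (hp : p.Prime) (hf : 1 ≤ f) (hn : 3 ≤ n)
    (hex1 : ¬ (p = 2 ∧ f * (2 * n) = 6)) (hex2 : ¬ (p = 2 ∧ f * (2 * (n - 1)) = 6)) (h6 : ¬ (n = 6 ∧ p ^ f = 2))
    (hR : R ≠ ⊤)
    (S : Subgroup R) [S.Normal] [IsSimpleGroup S] (hna : ¬ IsMulCommutative S)
    (hC : Subgroup.centralizer (S : Set R) = ⊥) (hS : IsNamed g S) (hch : HasChar p g)
    (hfull : Fl (.psp n (p ^ f)) R) : False := by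
  have hq1 : 1 ≤ p ^ f := Nat.one_le_pow _ _ hp.pos
  have hE : ∀ e, e % 2 = 0 → n < e → e ≤ 2 * n → ∀ s, Prim (p ^ f) e s → s ∣ Nat.card R := fun e h0 h1 h2 s hs =>
    hfull.1 s ⟨hs.prime, Or.inl (by rw [orderOf_prim hs hq1]; exact ⟨Nat.even_iff.2 h0, h1, h2⟩)⟩
  have hO : n % 2 = 1 → ∀ s, Prim (p ^ f) n s → s ∣ Nat.card R := fun h0 s hs =>
    hfull.1 s ⟨hs.prime, Or.inr (by rw [orderOf_prim hs hq1]; exact ⟨Nat.odd_iff.2 h0, by omega, le_rfl⟩)⟩
  have hrow := charp_psp hp hf hn hex1 hex2 hS.cond hch hS.eq (IsNamed.card_dvd hT S)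
    (HS.of S hna hC hp hS hch (by omega) (hE (2 * n) (by omega) (by omega) le_rfl))
    (HS.of S hna hC hp hS hch (by omega) (hE (2 * (n - 1)) (by omega) (by omega) (by omega)))
  have hfin : (g = .ominus n (p ^ f) ∨ (n = 3 ∧ g = .psu 4 (p ^ f))) → False := fun h => by
    obtain ⟨he, hg⟩ := sp_like hp hf hn hO S hna hC hS hch h
    obtain ⟨r, hr, hlt⟩ := exists_big hp hf hn (by
      rintro ⟨rfl, h⟩
      have hn' : 4 ≤ n := by omega
      have : f * 4 ≤ f * n := Nat.mul_le_mul_left _ hn'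
      obtain rfl : f = 1 := by omega
      exact h6 ⟨by omega, rfl⟩)
    exact hfull.2 r ⟨hr.prime, Nat.even_iff.2 he, orderOf_prim hr hq1⟩
      (cyc_four S hna hC (Or.inl hg) hS hp hf hr hlt hn he)
  rcases hrow with rfl | rfl | rfl | h | h
  · exact absurd (eq_top_of_name hT hS) hR
  · refine absurd (eq_top_of_card (S := S) ?_) hR
    have h1 : 2 * Nat.card S = (p ^ f) ^ (n ^ 2) * prB (p ^ f) n := hS.eq
    have h2 : Nat.gcd 2 (p ^ f - 1) * Nat.card T = (p ^ f) ^ (n ^ 2) * prB (p ^ f) n := hT.eq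
    have h3 : Nat.gcd 2 (p ^ f - 1) = 2 := Nat.gcd_eq_left (by
      obtain ⟨k, hk⟩ := hS.cond.2.1
      rw [hk]
      exact ⟨k, by omega⟩)
    rw [h3, ← h1] at h2
    exact (Nat.eq_of_mul_eq_mul_left (by norm_num) h2).symm
  · exact (not_psl_psp hp hf hn hex1 hT hS).elim
  · exact hfin (Or.inl h)
  · exact hfin (Or.inr h)

/-- **`T = Ω_{2n+1}(q)`, `n ≥ 3`.** -/
theorem fl_oodd (hT : IsNamed (.oodd n (p ^ f)) T) (hp : p.Prime) (hf : 1 ≤ f) (hn : 3 ≤ n) (hR : R ≠ ⊤)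
    (S : Subgroup R) [S.Normal] [IsSimpleGroup S] (hna : ¬ IsMulCommutative S)
    (hC : Subgroup.centralizer (S : Set R) = ⊥) (hS : IsNamed g S) (hch : HasChar p g)
    (hfull : Fl (.oodd n (p ^ f)) R) : False := by
  have hp2 : p ≠ 2 := by
    rintro rfl
    have := hT.cond.2.1
    rw [Nat.odd_pow_iff (by omega)] at this
    exact absurd this (by decide)
  have hq1 : 1 ≤ p ^ f := Nat.one_le_pow _ _ hp.pos
  have hE : ∀ e, e % 2 = 0 → n < e → e ≤ 2 * n → ∀ s, Prim (p ^ f) e s → s ∣ Nat.card R := fun e h0 h1 h2 s hs =>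
    hfull.1 s ⟨hs.prime, Or.inl (by rw [orderOf_prim hs hq1]; exact ⟨Nat.even_iff.2 h0, h1, h2⟩)⟩
  have hO : n % 2 = 1 → ∀ s, Prim (p ^ f) n s → s ∣ Nat.card R := fun h0 s hs =>
    hfull.1 s ⟨hs.prime, Or.inr (by rw [orderOf_prim hs hq1]; exact ⟨Nat.odd_iff.2 h0, by omega, le_rfl⟩)⟩
  have hrow := charp_psp hp hf hn (fun h => hp2 h.1) (fun h => hp2 h.1) hS.cond hch hS.eq (IsNamed.card_dvd hT S)
    (HS.of S hna hC hp hS hch (by omega) (hE (2 * n) (by omega) (by omega) le_rfl))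
    (HS.of S hna hC hp hS hch (by omega) (hE (2 * (n - 1)) (by omega) (by omega) (by omega)))
  have hfin : (g = .ominus n (p ^ f) ∨ (n = 3 ∧ g = .psu 4 (p ^ f))) → False := fun h => by
    obtain ⟨he, hg⟩ := sp_like hp hf hn hO S hna hC hS hch h
    obtain ⟨r, hr, hlt⟩ := exists_big hp hf hn (fun h => hp2 h.1)
    exact hfull.2 r ⟨hr.prime, Nat.even_iff.2 he, orderOf_prim hr hq1⟩
      (cyc_four S hna hC (Or.inl hg) hS hp hf hr hlt hn he)
  rcases hrow with rfl | rfl | rfl | h | h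
  · refine absurd (eq_top_of_card (S := S) ?_) hR
    have h1 : 2 * Nat.card T = (p ^ f) ^ (n ^ 2) * prB (p ^ f) n := hT.eq
    have h2 : Nat.gcd 2 (p ^ f - 1) * Nat.card S = (p ^ f) ^ (n ^ 2) * prB (p ^ f) n := hS.eq
    have h3 : Nat.gcd 2 (p ^ f - 1) = 2 := Nat.gcd_eq_left (by
      obtain ⟨k, hk⟩ := hT.cond.2.1
      rw [hk]
      exact ⟨k, by omega⟩)
    rw [h3, ← h1] at h2
    exact Nat.eq_of_mul_eq_mul_left (by norm_num) h2
  · exact absurd (eq_top_of_name hT hS) hR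
  · exact (not_psl_oodd hp hf hn hT hS).elim
  · exact hfin (Or.inl h)
  · exact hfin (Or.inr h)

/-- **`T = PΩ^-_{2n}(q)`, `n ≥ 4`.** -/
theorem fl_ominus (hT : IsNamed (.ominus n (p ^ f)) T) (hp : p.Prime) (hf : 1 ≤ f) (hn : 4 ≤ n)
    (hex2 : ¬ (p = 2 ∧ f * (2 * (n - 1)) = 6)) (hR : R ≠ ⊤)
    (S : Subgroup R) [S.Normal] [IsSimpleGroup S] (hna : ¬ IsMulCommutative S)
    (hC : Subgroup.centralizer (S : Set R) = ⊥) (hS : IsNamed g S) (hch : HasChar p g)
    (hfull : Fl (.ominus n (p ^ f)) R) : False := by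
  have hq1 : 1 ≤ p ^ f := Nat.one_le_pow _ _ hp.pos
  have hE : ∀ e, e % 2 = 0 → n < e → e ≤ 2 * n → ∀ s, Prim (p ^ f) e s → s ∣ Nat.card R := fun e h0 h1 h2 s hs =>
    hfull.1 s ⟨hs.prime, Or.inl (by rw [orderOf_prim hs hq1]; exact ⟨Nat.even_iff.2 h0, h1, h2⟩)⟩
  obtain rfl := charp_ominus hp hf hn hex2 hS.cond hch hS.eq (IsNamed.card_dvd hT S)
    (HS.of S hna hC hp hS hch (by omega) (hE (2 * n) (by omega) (by omega) le_rfl))
    (HS.of S hna hC hp hS hch (by omega) (hE (2 * (n - 1)) (by omega) (by omega) (by omega)))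
  exact hR (eq_top_of_name hT hS)

end

/-- **`T = Ω^+_{2n}(q)`, `n ≥ 4`.** -/
theorem charp_oplus' {c : ℕ} (hp : p.Prime) (hf : 1 ≤ f) {n : ℕ} (hn : 4 ≤ n)
    (hex1 : ¬ (p = 2 ∧ f * (2 * (n - 1)) = 6)) (hex2 : ¬ (p = 2 ∧ f * (2 * (n - 2)) = 6)) (hg : Cond g)
    (hch : HasChar p g) (hc : den g * c = num g)
    (hdvd : c ∣ (p ^ f) ^ (n * (n - 1)) * (((p ^ f) ^ n - 1) * prB (p ^ f) (n - 1)))
    (hs1 : HS p f (2 * (n - 1)) g c) (hs2 : HS p f (2 * (n - 2)) g c)
    (hs3 : n % 2 = 1 → HS p f n g c) (hs4 : n % 2 = 0 → HS p f (n - 1) g c) :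
    g = .oplus n (p ^ f) ∨ (n % 2 = 0 ∧ (g = .psl (n - 1) (p ^ (2 * f)) ∨ g = .psp (n - 1) (p ^ f) ∨
      g = .oodd (n - 1) (p ^ f))) := by
  obtain ⟨f₁, hf₁, hfl, hK, hY⟩ := kd_all hp hg hch hc
  have hT := td_oplus hp hf (by omega) hdvd
  have hfn : 1 * (2 * (n - 1)) ≤ f * (2 * (n - 1)) := Nat.mul_le_mul_right _ hf
  have hfn' : 1 * (2 * (n - 2)) ≤ f * (2 * (n - 2)) := Nat.mul_le_mul_right _ hf
  have hM2 := two_le_Mg hg hch
  have hb := f1_le hp hf₁ hT hK hY hM2 (by omega)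
  obtain ⟨h1, h2, h3, h4⟩ := comp hp hf hf₁ hT hK (by omega) hex1 (fun s hs => hs1.big hp hf hfl hb hs) hY (by
    intro hp2 h6 h5
    omega)
  have hA : 2 * ag g ≤ n * Mg g := by
    have h5 : (n - 1) * (2 * ag g) ≤ (n - 1) * (n * Mg g) := by
      calc (n - 1) * (2 * ag g) = ag g * (2 * (n - 1)) := by ring
        _ ≤ n * (n - 1) * Mg g := h2
        _ = (n - 1) * (n * Mg g) := by ring
    exact Nat.le_of_mul_le_mul_left h5 (by omega)
  have hO := caseA (N := n - 1) (ρ := n) (by omega) (by omega) hg hch hA (fun x hx => hK.le hx) (by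
    obtain ⟨x, hx, hx2⟩ := h3 (2 * (n - 2)) (by omega) hex2 fun s hs => hs2.big hp hf hfl (f1_le' hM2 h1 (by omega)) hs
    refine ⟨x, hx, ?_⟩
    rw [mul_assoc, mul_assoc] at hx2
    exact Nat.dvd_of_mul_dvd_mul_left (by norm_num) hx2)
  have hq2 : 2 ≤ p ^ f := (hp.two_le).trans (Nat.le_self_pow (by omega) _)
  cases g
  case psl m q =>
    obtain rfl : m = n - 1 := hO
    have hq : q = p ^ f₁ := hfl
    have h5 : f₁ * (n - 1) = f * (2 * (n - 1)) := h1
    have h6 : f₁ = 2 * f := Nat.eq_of_mul_eq_mul_right (show 0 < n - 1 by omega) (by rw [h5]; ring)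
    rcases Nat.mod_two_eq_zero_or_one n with h0 | h0
    · exact Or.inr ⟨h0, Or.inl (by rw [hq, h6])⟩
    · exfalso
      obtain ⟨s, hs, hs'⟩ := ex_prim hp hf (by omega) h0 hc hfl (by omega) (hs3 h0)
      have h7 : s ∣ glN (n - 1) q := hs'
      rw [hq, h6, mul_comm 2 f, pow_mul] at h7
      exact not_dvd_glN_odd hs h0 (by omega) h7
  case psp m q =>
    obtain ⟨rfl, -⟩ : m = n - 1 ∧ n - 1 ≤ n := hO
    have hq : q = p ^ f₁ := hfl
    have h5 : f₁ * (2 * (n - 1)) = f * (2 * (n - 1)) := h1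
    have h6 := Nat.eq_of_mul_eq_mul_right (by omega) h5
    rcases Nat.mod_two_eq_zero_or_one n with h0 | h0
    · exact Or.inr ⟨h0, Or.inr (Or.inl (by rw [hq, h6]))⟩
    · exfalso
      obtain ⟨s, hs, hs'⟩ := ex_prim hp hf (by omega) h0 hc hfl (by omega) (hs3 h0)
      have h7 : s ∣ q ^ ((n - 1) ^ 2) * prB q (n - 1) := hs'
      rw [hq, h6] at h7
      exact not_dvd_prB_odd hs h0 (by omega) h7
  case oodd m q =>
    obtain ⟨rfl, -⟩ : m = n - 1 ∧ n - 1 ≤ n := hO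
    have hq : q = p ^ f₁ := hfl
    have h5 : f₁ * (2 * (n - 1)) = f * (2 * (n - 1)) := h1
    have h6 := Nat.eq_of_mul_eq_mul_right (by omega) h5
    rcases Nat.mod_two_eq_zero_or_one n with h0 | h0
    · exact Or.inr ⟨h0, Or.inr (Or.inr (by rw [hq, h6]))⟩
    · exfalso
      obtain ⟨s, hs, hs'⟩ := ex_prim hp hf (by omega) h0 hc hfl (by omega) (hs3 h0)
      have h7 : s ∣ q ^ ((n - 1) ^ 2) * prB q (n - 1) := hs'
      rw [hq, h6] at h7
      exact not_dvd_prB_odd hs h0 (by omega) h7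
  case psu m q =>
    exfalso
    obtain ⟨rfl, h6⟩ : m = 4 ∧ n - 1 = 3 := hO
    obtain rfl : n = 4 := by omega
    have hq : q = p ^ f₁ := hfl
    have h5 : f₁ * 6 = f * 6 := h1
    have h7 : f₁ = f := by omega
    obtain ⟨s, hs, hs'⟩ := ex_prim hp hf (by norm_num) (by norm_num) hc hfl (by omega) (hs4 (by norm_num))
    have h8 : s ∣ q ^ (4 * (4 - 1) / 2) * prU q 4 := hs'
    rw [hq, h7] at h8
    refine not_dvd_psu_odd hs (by norm_num) (by norm_num) (fun i hi1 hi2 hi3 hi4 => ?_) h8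
    interval_cases i <;> omega
  case oplus m q =>
    obtain ⟨h5, -⟩ : m = n - 1 + 1 ∧ n = n - 1 + 1 := hO
    obtain rfl : m = n := by omega
    have hq : q = p ^ f₁ := hfl
    have h5 : f₁ * (2 * (m - 1)) = f * (2 * (m - 1)) := h1
    exact Or.inl (by rw [hq, Nat.eq_of_mul_eq_mul_right (by omega) h5])
  case ominus m q =>
    exfalso
    obtain ⟨hm4, -⟩ := hg
    obtain ⟨rfl, -⟩ : m = n - 1 ∧ n - 1 - 1 ≤ n := hO
    have hq : q = p ^ f₁ := hfl
    have h5 : f₁ * (2 * (n - 1)) = f * (2 * (n - 1)) := h1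
    have h6 := Nat.eq_of_mul_eq_mul_right (by omega) h5
    rcases Nat.mod_two_eq_zero_or_one n with h0 | h0
    · obtain ⟨s, hs, hs'⟩ := ex_prim hp hf (by omega) (by omega) hc hfl (by omega) (hs4 h0)
      have h7 : s ∣ q ^ ((n - 1) * (n - 1 - 1)) * ((q ^ (n - 1) + 1) * prB q (n - 1 - 1)) := hs'
      rw [hq, h6] at h7
      exact not_dvd_ominus_odd hs (by omega) (by omega) h7
    · obtain ⟨s, hs, hs'⟩ := ex_prim hp hf (by omega) h0 hc hfl (by omega) (hs3 h0)
      have h7 : s ∣ q ^ ((n - 1) * (n - 1 - 1)) * ((q ^ (n - 1) + 1) * prB q (n - 1 - 1)) := hs'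
      rw [hq, h6, mul_left_comm] at h7
      rcases hs.prime.dvd_mul.1 h7 with h8 | h8
      · exact not_dvd_add_odd hs h0 (by omega) _ h8
      · exact not_dvd_prB_odd hs h0 (by omega) h8
  case f4 q =>
    exfalso
    obtain ⟨h5, h6⟩ : n - 1 = 3 ∧ n = 4 := hO
    subst h6
    have hq : q = p ^ f₁ := hfl
    have h7 : f₁ * 12 = f * 6 := h1
    have h8 : f = 2 * f₁ := by omega
    have h9 : 1 * c = q ^ 24 * ((q ^ 2 - 1) * (q ^ 6 - 1) * (q ^ 8 - 1) * (q ^ 12 - 1)) := hc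
    have h10 : prB (p ^ f) (4 - 1) = ((p ^ f) ^ 2 - 1) * ((p ^ f) ^ 4 - 1) * ((p ^ f) ^ 6 - 1) := by
      rw [prB_eq, Finset.prod_range_succ, Finset.prod_range_succ, Finset.prod_range_succ, Finset.prod_range_zero,
        one_mul]
    obtain ⟨x, hx⟩ : ∃ x, x = q ^ 2 := ⟨_, rfl⟩
    have hx2 : p ^ f = x := by rw [hx, hq, h8, ← pow_mul, mul_comm]
    rw [hx2] at h10 hdvd
    rw [h10] at hdvd
    rw [one_mul, show q ^ 24 = x ^ 12 by rw [hx]; ring, show q ^ 6 = x ^ 3 by rw [hx]; ring,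
      show q ^ 8 = x ^ 4 by rw [hx]; ring, show q ^ 12 = x ^ 6 by rw [hx]; ring, ← hx] at h9
    rw [h9] at hdvd
    have hx3 : 2 ≤ x := hx2 ▸ hq2
    have hpos : ∀ k, 1 ≤ k → 0 < x ^ k - 1 := fun k hk => by
      have : 1 < x ^ k := Nat.one_lt_pow (by omega) (by omega)
      omega
    have h11 : (x ^ 12 * (x ^ 4 - 1) * (x ^ 6 - 1)) * ((x - 1) * (x ^ 3 - 1)) ∣
        (x ^ 12 * (x ^ 4 - 1) * (x ^ 6 - 1)) * ((x ^ 2 - 1) * (x ^ 4 - 1)) := by
      obtain ⟨k, hk⟩ := hdvd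
      refine ⟨k, ?_⟩
      calc (x ^ 12 * (x ^ 4 - 1) * (x ^ 6 - 1)) * ((x ^ 2 - 1) * (x ^ 4 - 1)) =
          x ^ (4 * (4 - 1)) * ((x ^ 4 - 1) * ((x ^ 2 - 1) * (x ^ 4 - 1) * (x ^ 6 - 1))) := by
            norm_num only
            ring
        _ = _ := hk
        _ = _ := by ring
    have h12 := Nat.dvd_of_mul_dvd_mul_left (Nat.mul_pos (Nat.mul_pos (by positivity) (hpos 4 (by norm_num)))
      (hpos 6 (by norm_num))) h11
    exact f4_dvd hx3 h12
  case te6 q =>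
    exfalso
    obtain ⟨h5, h6⟩ : n - 1 = 3 ∧ n = 4 := hO
    subst h6
    obtain ⟨i, ⟨hi1, hi2, -⟩, hi3⟩ := h4 10 (by show (10 : ℕ) ∈ _; decide) (by omega) (by omega)
    have hi4 : 6 * 10 ∣ 18 * i := hi3
    have hi5 : i ≤ 6 := hi2
    interval_cases i <;> omega
  all_goals exact absurd hO not_false

/-- **`T = PSU_6(q)`** by the primes of order `10`, `4`, `3`. -/
theorem charp_psu6 {c : ℕ} (hp : p.Prime) (hf : 1 ≤ f) (hg : Cond g)
    (hch : HasChar p g) (hc : den g * c = num g)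
    (hdvd : c ∣ (p ^ f) ^ (6 * (6 - 1) / 2) * prU (p ^ f) 6)
    (hs1 : HS p f 10 g c) (hs2 : HS p f 4 g c) (hs4 : HS p f 3 g c) :
    g = .psu 6 (p ^ f) := by
  obtain ⟨f₁, hf₁, hfl, hK, hY⟩ := kd_all hp hg hch hc
  have hT : TD p f c (XU 6) 10 15 := td_psu hp hf hdvd
  have hM2 := two_le_Mg hg hch
  have hb : f₁ ≤ f * 10 := f1_le hp hf₁ hT hK hY hM2 (show 3 ≤ f * 10 by omega)
  obtain ⟨h1, h2, h3, h4⟩ := comp hp hf hf₁ hT hK (show 3 ≤ f * 10 by omega) (by omega)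
    (fun s hs => hs1.big hp hf hfl hb hs) hY (by
    intro hp2 h6 h5
    have : f * 10 ≤ 5 := h5
    omega)
  have h1' : f₁ * Mg g = f * 10 := h1
  have h2' : ag g * 10 ≤ 15 * Mg g := h2
  have hq2 : 2 ≤ p ^ f := (hp.two_le).trans (Nat.le_self_pow (by omega) _)
  by_cases hM : Mg g = 2
  · exfalso
    cases g
    case psl m q =>
      obtain rfl : m = 2 := hM
      have hq : q = p ^ f₁ := hfl
      have h5 : f₁ * 2 = f * 10 := h1'
      have h6 : f₁ = f * 5 := by omega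
      obtain ⟨s, hs⟩ := exists_prim hq2 (e := 5) (by omega) (by omega)
      have hs5 := lt_of_prim hs
      have hQ : q = (p ^ f) ^ 5 := by rw [hq, h6, pow_mul]
      have h7 : s ∣ q - 1 := by rw [hQ]; exact hs.dvd dvd_rfl
      have hq3 : 2 ≤ q := by rw [hQ]; exact hq2.trans (Nat.le_self_pow (by norm_num) _)
      have hc' : Nat.gcd 2 (q - 1) * (q - 1) * c = glN 2 q := hc
      rw [glN_eq, Finset.prod_range_succ, Finset.prod_range_succ, Finset.prod_range_zero, one_mul, zero_add,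
        pow_one] at hc'
      have h8 : Nat.gcd 2 (q - 1) * c = q * (q ^ (1 + 1) - 1) := by
        apply Nat.eq_of_mul_eq_mul_left (show 0 < q - 1 by omega)
        calc (q - 1) * (Nat.gcd 2 (q - 1) * c) = Nat.gcd 2 (q - 1) * (q - 1) * c := by ring
          _ = q * ((q - 1) * (q ^ (1 + 1) - 1)) := hc'
          _ = _ := by ring
      have h9 : s ∣ Nat.gcd 2 (q - 1) * c := by
        rw [h8]
        refine Dvd.dvd.mul_left (h7.trans ?_) _
        have := Nat.sub_one_dvd_pow_sub_one q 2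
        exact this
      have h10 : s ∣ c := by
        rcases hs.prime.dvd_mul.1 h9 with h | h
        · have := Nat.le_of_dvd (by norm_num) (h.trans (Nat.gcd_dvd_left _ _))
          omega
        · exact h
      refine not_dvd_psu_odd hs (by norm_num) (by norm_num) (fun i hi1 hi2 hi3 hi4 => ?_) (h10.trans hdvd)
      interval_cases i <;> omega
    case psu m q =>
      have h5 : 2 * (if m % 2 = 0 then m - 1 else m) = 2 := hM
      have := hg.1
      split_ifs at h5 <;> omega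
    case psp m q =>
      have h5 : 2 * m = 2 := hM
      have := hg.1
      omega
    case oodd m q =>
      have h5 : 2 * m = 2 := hM
      have := hg.1
      omega
    case oplus m q =>
      have h5 : 2 * (m - 1) = 2 := hM
      have := hg.1
      omega
    case ominus m q =>
      have h5 : 2 * m = 2 := hM
      have := hg.1
      omega
    all_goals simp only [Mg] at hM; omega
  have hf₁4 : f₁ ≤ f * 4 := by
    have h5 : f₁ * 3 ≤ f₁ * Mg g := Nat.mul_le_mul_left _ (by omega)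
    omega
  obtain ⟨x, hx, hx2⟩ : ∃ x, Xg g x ∧ 4 * Mg g ∣ 10 * x :=
    h3 4 (by omega) (by omega) fun s hs => hs2.big hp hf hfl hf₁4 hs
  have hx3 := hK.le hx
  have h5 : 5 ∣ Mg g := by
    obtain ⟨k, hk⟩ := hx2
    have h6 : k ≤ 2 := by
      by_contra h7
      have h8 : Mg g * 3 ≤ Mg g * k := Nat.mul_le_mul_left _ (by omega)
      have h9 : 10 * x = 4 * (Mg g * k) := by rw [hk]; ring
      omega
    have h10 : 1 ≤ k := by
      rcases Nat.eq_zero_or_pos k with rfl | h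
      · omega
      · exact h
    interval_cases k <;> omega
  cases g
  case psl m q =>
    exfalso
    have h6 : m * (m - 1) / 2 * 10 ≤ 15 * m := h2'
    have h7 : 5 ∣ m := h5
    have h8 := half m
    have h9 : 5 ≤ m := by have := hg.1; omega
    have h10 : m * 4 ≤ m * (m - 1) := Nat.mul_le_mul_left _ (by omega)
    omega
  case psp m q =>
    exfalso
    have h6 : m ^ 2 * 10 ≤ 15 * (2 * m) := h2'
    have h7 : 5 ∣ 2 * m := h5
    have h9 : 5 ≤ m := by have := hg.1; omega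
    nlinarith
  case oodd m q =>
    exfalso
    have h6 : m ^ 2 * 10 ≤ 15 * (2 * m) := h2'
    have h7 : 5 ∣ 2 * m := h5
    have h9 : 5 ≤ m := by have := hg.1; omega
    nlinarith
  case psu m q =>
    have hq : q = p ^ f₁ := hfl
    have hm3 : 3 ≤ m := hg.1
    have h6 : m * (m - 1) / 2 * 10 ≤ 15 * (2 * (if m % 2 = 0 then m - 1 else m)) := h2'
    have h7 : 5 ∣ 2 * (if m % 2 = 0 then m - 1 else m) := h5
    have h1'' : f₁ * (2 * (if m % 2 = 0 then m - 1 else m)) = f * 10 := h1'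
    have h8 := half m
    have h9 : m ≤ 7 := by
      by_contra h10
      have h11 : m * 7 ≤ m * (m - 1) := Nat.mul_le_mul_left _ (by omega)
      split_ifs at h6 <;> omega
    have h10 : m = 5 ∨ m = 6 := by
      split_ifs at h7 <;> omega
    rcases h10 with rfl | rfl
    · exfalso
      have h11 : f₁ * (2 * 5) = f * 10 := h1''
      obtain rfl : f₁ = f := by omega
      obtain ⟨s, hs, hs''⟩ := ex_prim hp hf (e := 3) (by omega) (by omega) hc hfl (by omega) hs4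
      have hs3' : s ∣ q ^ (5 * (5 - 1) / 2) * prU q 5 := hs''
      rw [hq] at hs3'
      refine not_dvd_psu_odd hs (by omega) (by omega) (fun i hi1 hi2 hi3 hi4 => ?_) hs3'
      interval_cases i <;> omega
    · have h11 : f₁ * (2 * 5) = f * 10 := h1''
      obtain rfl : f₁ = f := by omega
      rw [hq]
  case oplus m q =>
    exfalso
    have h6 : m * (m - 1) * 10 ≤ 15 * (2 * (m - 1)) := h2'
    have hm : 4 ≤ m := hg.1
    have h9 : 4 * (m - 1) ≤ m * (m - 1) := Nat.mul_le_mul_right _ hm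
    omega
  case ominus m q =>
    exfalso
    have h6 : m * (m - 1) * 10 ≤ 15 * (2 * m) := h2'
    have h7 : 5 ∣ 2 * m := h5
    have hm : 5 ≤ m := by have := hg.1; omega
    have h9 : m * 4 ≤ m * (m - 1) := Nat.mul_le_mul_left _ (by omega)
    omega
  case e8 q =>
    exfalso
    have h6 : 120 * 10 ≤ 15 * 30 := h2'
    omega
  all_goals first
    | exact absurd hch not_false
    | (simp only [Mg] at h5; omega)

section

variable {T : Type u} [Group T] [Finite T] {R : Subgroup T}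

/-- **`T = PΩ^+_{2n}(q)`, `n ≥ 4`.** -/
theorem fl_oplus (hT : IsNamed (.oplus n (p ^ f)) T) (hp : p.Prime) (hf : 1 ≤ f) (hn : 4 ≤ n)
    (hex1 : ¬ (p = 2 ∧ f * (2 * (n - 1)) = 6)) (hex2 : ¬ (p = 2 ∧ f * (2 * (n - 2)) = 6)) (h6 : ¬ (n = 6 ∧ p ^ f = 2))
    (hR : R ≠ ⊤)
    (S : Subgroup R) [S.Normal] [IsSimpleGroup S] (hna : ¬ IsMulCommutative S)
    (hC : Subgroup.centralizer (S : Set R) = ⊥) (hS : IsNamed g S) (hch : HasChar p g)
    (hfull : Fl (.oplus n (p ^ f)) R) : False := by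
  have hq1 : 1 ≤ p ^ f := Nat.one_le_pow _ _ hp.pos
  have hE : ∀ e, e % 2 = 0 → n < e → e ≤ 2 * (n - 1) → ∀ s, Prim (p ^ f) e s → s ∣ Nat.card R :=
    fun e h0 h1 h2 s hs =>
      hfull.1 s ⟨hs.prime, Or.inl (by rw [orderOf_prim hs hq1]; exact ⟨Nat.even_iff.2 h0, h1, h2⟩)⟩
  have hO : ∀ e, e % 2 = 1 → n < 2 * e → e ≤ n → ∀ s, Prim (p ^ f) e s → s ∣ Nat.card R := fun e h0 h1 h2 s hs =>
    hfull.1 s ⟨hs.prime, Or.inr (by rw [orderOf_prim hs hq1]; exact ⟨Nat.odd_iff.2 h0, h1, h2⟩)⟩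
  have hT2 : n % 2 = 0 → ∀ s, Prim (p ^ f) n s → s ∣ Nat.card R := fun h0 s hs =>
    hfull.two (show TwoU (.oplus n (p ^ f)) s from ⟨hs.prime, Nat.even_iff.2 h0, orderOf_prim hs hq1⟩)
  have hrow := charp_oplus' hp hf hn hex1 hex2 hS.cond hch hS.eq (IsNamed.card_dvd hT S)
    (HS.of S hna hC hp hS hch (by omega) (hE (2 * (n - 1)) (by omega) (by omega) le_rfl))
    (by
      rcases Nat.lt_or_ge 4 n with h4 | h4
      · exact HS.of S hna hC hp hS hch (by omega) (hE (2 * (n - 2)) (by omega) (by omega) (by omega))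
      · obtain rfl : n = 4 := by omega
        exact HS.of S hna hC hp hS hch (by omega) (hT2 (by norm_num)))
    (fun h0 => HS.of S hna hC hp hS hch (by omega) (hO n h0 (by omega) le_rfl))
    (fun h0 => HS.of S hna hC hp hS hch (by omega) (hO (n - 1) (by omega) (by omega) (by omega)))
  rcases hrow with rfl | ⟨he, hg⟩
  · exact absurd (eq_top_of_name hT hS) hR
  · obtain ⟨r, hr, hlt⟩ := exists_big hp hf (n := n) (by omega) (by
      rintro ⟨rfl, h⟩
      have : f * 4 ≤ f * n := Nat.mul_le_mul_left _ hn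
      obtain rfl : f = 1 := by omega
      exact h6 ⟨by omega, rfl⟩)
    exact hfull.2 r ⟨hr.prime, Nat.even_iff.2 he, orderOf_prim hr hq1⟩
      (cyc_four S hna hC (Or.inr hg) hS hp hf hr hlt (by omega) he)

theorem ne_two_of_prim {q e s : ℕ} (he : 3 ≤ e) (hs : Prim q e s) : s ≠ 2 := by
  have := lt_of_prim hs
  omega

/-- **`T = PSU_n(q)`, `n ≥ 4`.** -/
theorem fl_psu (hT : IsNamed (.psu n (p ^ f)) T) (hp : p.Prime) (hf : 1 ≤ f) (hn : 4 ≤ n)
    (hex : ¬ (p = 2 ∧ f = 1 ∧ n ≤ 6)) (hR : R ≠ ⊤)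
    (S : Subgroup R) [S.Normal] [IsSimpleGroup S] (hna : ¬ IsMulCommutative S)
    (hC : Subgroup.centralizer (S : Set R) = ⊥) (hS : IsNamed g S) (hch : HasChar p g)
    (hfull : Fl (.psu n (p ^ f)) R) : False := by
  have hq1 : 1 ≤ p ^ f := Nat.one_le_pow _ _ hp.pos
  have key : ∀ s E, s.Prime → orderOf (-((p ^ f : ℕ) : ZMod s)) = E → n < 2 * E → E ≤ n → s ∣ Nat.card R :=
    fun s E hs h1 h2 h3 => hfull.1 s ⟨hs, by rw [h1]; exact h2, by rw [h1]; exact h3⟩
  have hA : ∀ N, N % 2 = 1 → 3 ≤ N → n < 2 * N → N ≤ n → ∀ s, Prim (p ^ f) (2 * N) s → s ∣ Nat.card R :=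
    fun N h0 h3 h1 h2 s hs => key s N hs.prime (neg_two hs hq1 h0 (ne_two_of_prim (by omega) hs)) h1 h2
  have hB : ∀ e, e % 4 = 0 → 4 ≤ e → n < 2 * e → e ≤ n → ∀ s, Prim (p ^ f) e s → s ∣ Nat.card R :=
    fun e h0 h3 h1 h2 s hs => key s e hs.prime (neg_four hs hq1 h0 (ne_two_of_prim (by omega) hs)) h1 h2
  have hC' : ∀ e, e % 2 = 1 → 3 ≤ e → n < 2 * (2 * e) → 2 * e ≤ n → ∀ s, Prim (p ^ f) e s → s ∣ Nat.card R :=
    fun e h0 h3 h1 h2 s hs => key s (2 * e) hs.prime (neg_odd hs hq1 h0 (ne_two_of_prim (by omega) hs)) h1 h2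
  rcases (show n = 4 ∨ n = 6 ∨ (5 ≤ n ∧ n ≠ 6) by omega) with rfl | rfl | ⟨h5, h6⟩
  · obtain rfl := charp_psu4 hp hf (fun h => hex ⟨h.1, by omega, by norm_num⟩) hS.cond hch hS.eq
      (IsNamed.card_dvd hT S)
      (HS.of S hna hC hp hS hch (by omega) (hA 3 (by norm_num) (by norm_num) (by norm_num) (by norm_num)))
      (HS.of S hna hC hp hS hch (by omega) (hB 4 (by norm_num) (by norm_num) (by norm_num) (by norm_num)))
    exact hR (eq_top_of_name hT hS)
  · obtain rfl := charp_psu6 hp hf hS.cond hch hS.eq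
      (IsNamed.card_dvd hT S)
      (HS.of S hna hC hp hS hch (by omega) (hA 5 (by norm_num) (by norm_num) (by norm_num) (by norm_num)))
      (HS.of S hna hC hp hS hch (by omega) (hB 4 (by norm_num) (by norm_num) (by norm_num) (by norm_num)))
      (HS.of S hna hC hp hS hch (by omega) (hC' 3 (by norm_num) (by norm_num) (by norm_num) (by norm_num)))
    exact hR (eq_top_of_name hT hS)
  · obtain ⟨N, hN⟩ : ∃ N, N = if n % 2 = 0 then n - 1 else n := ⟨_, rfl⟩
    have hN5 : 5 ≤ N := by rw [hN]; split_ifs <;> omega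
    have hNo : N % 2 = 1 := by rw [hN]; split_ifs <;> omega
    have hNn : N ≤ n := by rw [hN]; split_ifs <;> omega
    have hNn' : n ≤ N + 1 := by rw [hN]; split_ifs <;> omega
    obtain rfl := charp_psu hp hf h5 hN (fun h => hex ⟨h.1, by
        have h7 : f * 6 ≤ f * (2 * (N - 2)) := Nat.mul_le_mul_left _ (by omega)
        omega, by
        have h7 : 1 * (2 * (N - 2)) ≤ f * (2 * (N - 2)) := Nat.mul_le_mul_right _ hf
        omega⟩) hS.cond hch hS.eq (IsNamed.card_dvd hT S)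
      (HS.of S hna hC hp hS hch (by omega) (hA N hNo (by omega) (by omega) hNn))
      (HS.of S hna hC hp hS hch (by omega) (hA (N - 2) (by omega) (by omega) (by omega) (by omega)))
      (fun h4 => HS.of S hna hC hp hS hch (by omega) (hB n h4 (by omega) (by omega) le_rfl))
      (fun h4 => HS.of S hna hC hp hS hch (by omega) (hC' (n / 2) (by omega) (by omega) (by omega) (by omega)))
    exact hR (eq_top_of_name hT hS)

end

theorem exists_pow_of {q : ℕ} (h : IsPrimePow q) (hq : ∃ f, q = p ^ f) : ∃ f, q = p ^ f ∧ 1 ≤ f := by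
  obtain ⟨f, rfl⟩ := hq
  refine ⟨f, rfl, ?_⟩
  rcases Nat.eq_zero_or_pos f with rfl | h0
  · rw [pow_zero] at h
    exact absurd h not_isPrimePow_one
  · exact h0

/-- **Proper almost simple subgroups with socle of Lie type in the characteristic of a large classical group.** -/
theorem char_row {T : Type} [Group T] [Finite T] {gT : Grp} (hp : p.Prime) (hT : IsNamed gT T)
    (hpT : HasChar p gT) (hcl : (∃ n q, 4 ≤ n ∧ gT = .psl n q) ∨ (∃ n q, 3 ≤ n ∧ gT = .psp n q) ∨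
      (∃ n q, gT = .oodd n q) ∨ (∃ n q, gT = .oplus n q) ∨ (∃ n q, gT = .ominus n q) ∨
      (∃ n q, 4 ≤ n ∧ gT = .psu n q))
    (hbig : 10 ^ 30 ≤ Nat.card T) {R : Subgroup T} (hR : R ≠ ⊤) (S : Subgroup R) [S.Normal] [IsSimpleGroup S]
    (hna : ¬ IsMulCommutative S) (hC : Subgroup.centralizer (S : Set R) = ⊥) (hS : IsNamed g S)
    (hch : HasChar p g) : H851.Dg.Out gT R := by
  by_contra hcon
  have hfull := fl_of_not_out hcon
  have hlt : ∀ {g' : Grp}, gT = g' → num g' < 10 ^ 30 → 0 < den g' → False := fun h1 h2 h3 => by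
    subst h1
    exact absurd (IsNamed.lt hT h2 h3) (by omega)
  rcases hcl with ⟨n, q, hn, rfl⟩ | ⟨n, q, hn, rfl⟩ | ⟨n, q, rfl⟩ | ⟨n, q, rfl⟩ | ⟨n, q, rfl⟩ | ⟨n, q, hn, rfl⟩
  · obtain ⟨f, rfl, hf⟩ := exists_pow_of hT.cond.2.2 hpT
    refine fl_psl hT hp hf hn ?_ ?_ ?_ hR S hna hC hS hch hfull
    · rintro ⟨rfl, h⟩
      exact hlt (g' := .psl 4 2) (by rw [h]) (by decide +kernel) (by decide +kernel)
    · rintro ⟨rfl, h⟩
      have h1 : f * 4 ≤ f * n := Nat.mul_le_mul_left _ hn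
      obtain rfl : f = 1 := by omega
      obtain rfl : n = 6 := by omega
      exact hlt (g' := .psl 6 2) rfl (by decide +kernel) (by decide +kernel)
    · rintro ⟨rfl, h⟩
      have h1 : f * 3 ≤ f * (n - 1) := Nat.mul_le_mul_left _ (by omega)
      rcases (show f = 1 ∨ f = 2 by omega) with rfl | rfl
      · obtain rfl : n = 7 := by omega
        exact hlt (g' := .psl 7 2) rfl (by decide +kernel) (by decide +kernel)
      · obtain rfl : n = 4 := by omega
        exact hlt (g' := .psl 4 4) rfl (by decide +kernel) (by decide +kernel)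
  · obtain ⟨f, rfl, hf⟩ := exists_pow_of hT.cond.2.2 hpT
    refine fl_psp hT hp hf hn ?_ ?_ ?_ hR S hna hC hS hch hfull
    · rintro ⟨rfl, h⟩
      have h1 : f * 6 ≤ f * (2 * n) := Nat.mul_le_mul_left _ (by omega)
      obtain rfl : f = 1 := by omega
      obtain rfl : n = 3 := by omega
      exact hlt (g' := .psp 3 2) rfl (by decide +kernel) (by decide +kernel)
    · rintro ⟨rfl, h⟩
      have h1 : f * 4 ≤ f * (2 * (n - 1)) := Nat.mul_le_mul_left _ (by omega)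
      obtain rfl : f = 1 := by omega
      obtain rfl : n = 4 := by omega
      exact hlt (g' := .psp 4 2) rfl (by decide +kernel) (by decide +kernel)
    · rintro ⟨rfl, h⟩
      exact hlt (g' := .psp 6 2) (by rw [h]) (by decide +kernel) (by decide +kernel)
  · obtain ⟨f, rfl, hf⟩ := exists_pow_of hT.cond.2.2 hpT
    exact fl_oodd hT hp hf hT.cond.1 hR S hna hC hS hch hfull
  · obtain ⟨f, rfl, hf⟩ := exists_pow_of hT.cond.2 hpT
    have hn : 4 ≤ n := hT.cond.1
    refine fl_oplus hT hp hf hn ?_ ?_ ?_ hR S hna hC hS hch hfull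
    · rintro ⟨rfl, h⟩
      have h1 : f * 6 ≤ f * (2 * (n - 1)) := Nat.mul_le_mul_left _ (by omega)
      obtain rfl : f = 1 := by omega
      obtain rfl : n = 4 := by omega
      exact hlt (g' := .oplus 4 2) rfl (by decide +kernel) (by decide +kernel)
    · rintro ⟨rfl, h⟩
      have h1 : f * 4 ≤ f * (2 * (n - 2)) := Nat.mul_le_mul_left _ (by omega)
      obtain rfl : f = 1 := by omega
      obtain rfl : n = 5 := by omega
      exact hlt (g' := .oplus 5 2) rfl (by decide +kernel) (by decide +kernel)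
    · rintro ⟨rfl, h⟩
      exact hlt (g' := .oplus 6 2) (by rw [h]) (by decide +kernel) (by decide +kernel)
  · obtain ⟨f, rfl, hf⟩ := exists_pow_of hT.cond.2 hpT
    have hn : 4 ≤ n := hT.cond.1
    refine fl_ominus hT hp hf hn ?_ hR S hna hC hS hch hfull
    rintro ⟨rfl, h⟩
    have h1 : f * 6 ≤ f * (2 * (n - 1)) := Nat.mul_le_mul_left _ (by omega)
    obtain rfl : f = 1 := by omega
    obtain rfl : n = 4 := by omega
    exact hlt (g' := .ominus 4 2) rfl (by decide +kernel) (by decide +kernel)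
  · obtain ⟨f, rfl, hf⟩ := exists_pow_of hT.cond.2.2 hpT
    refine fl_psu hT hp hf hn ?_ hR S hna hC hS hch hfull
    rintro ⟨rfl, rfl, h⟩
    rcases (show n = 4 ∨ n = 5 ∨ n = 6 by omega) with rfl | rfl | rfl
    · exact hlt (g' := .psu 4 2) rfl (by decide +kernel) (by decide +kernel)
    · exact hlt (g' := .psu 5 2) rfl (by decide +kernel) (by decide +kernel)
    · exact hlt (g' := .psu 6 2) rfl (by decide +kernel) (by decide +kernel)

end Cfsg.Agent.H560.DgChar
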