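import Cfsg.Agent.H560.Icos
import Cfsg.Agent.H560.QuatLift
import Cfsg.Agent.S4293
import Cfsg.Agent.H348.Nonsolvable
import Mathlib

/-!
Non-solvable finite subgroups of division rings.
-/

set_option autoImplicit false
set_option linter.style.haveILetI false
set_option linter.unusedSectionVars false

namespace Cfsg.Agent.H560.DivSub

open Cfsg.Agent.PermutationGroups.AutSL25 Cfsg.Agent.H560.SL25Facts Cfsg.Agent.H560.DivRing
open Cfsg.Agent.H560.Icos Cfsg.Agent.H348 Cfsg.Agent.H560

/-- A division ring containing `SL(2,5)` has characteristic zero. -/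
theorem charZero {D : Type*} [DivisionRing D] (F : SL25 →* D) (hF : Function.Injective F) :
    CharZero D := by
  obtain ⟨p, hp⟩ := CharP.exists D
  rcases CharP.char_is_prime_or_zero D p with hpp | h0
  · exfalso
    haveI : Fact p.Prime := ⟨hpp⟩
    obtain ⟨a, b, hab⟩ := ZMod.sq_add_sq p (-1)
    have h2 := two_ne F hF
    have hii := ii F hF
    have hjj := jj F hF
    have hji := ji F hF
    let φ : ZMod p →+* D := ZMod.castHom (dvd_refl p) D
    have hc : ∀ (x : ZMod p) (z : D), Commute (φ x) z := by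
      intro x z
      obtain ⟨n, rfl⟩ := ZMod.intCast_surjective x
      rw [map_intCast]
      exact Int.cast_commute n z
    -- the element `1 + a i + b j` has norm zero
    have h1 : (1 + (φ a * F S + φ b * F J)) * (1 - (φ a * F S + φ b * F J)) = 0 := by
      have h3 : (φ a * F S + φ b * F J) * (φ a * F S + φ b * F J) = 1 := by
        have e1 : φ a * F S * (φ a * F S) = -(φ a * φ a) := by
          rw [(hc a (F S)).symm.mul_mul_mul_comm, hii, mul_neg_one]
        have e2 : φ b * F J * (φ b * F J) = -(φ b * φ b) := by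
          rw [(hc b (F J)).symm.mul_mul_mul_comm, hjj, mul_neg_one]
        have e3 : φ a * F S * (φ b * F J) = (φ a * φ b) * (F S * F J) :=
          (hc b (F S)).symm.mul_mul_mul_comm _ _
        have e4 : φ b * F J * (φ a * F S) = -((φ a * φ b) * (F S * F J)) := by
          rw [(hc a (F J)).symm.mul_mul_mul_comm, hji, mul_neg, (hc b (φ a)).eq]
        rw [add_mul, mul_add, mul_add, e1, e2, e3, e4]
        have h4 : φ a * φ a + φ b * φ b = -1 := by
          rw [← map_mul, ← map_mul, ← map_add, ← sq, ← sq, hab, map_neg, map_one]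
        have h5 : -(φ a * φ a) + φ a * φ b * (F S * F J) +
            (-(φ a * φ b * (F S * F J)) + -(φ b * φ b)) = -(φ a * φ a + φ b * φ b) := by abel
        rw [h5, h4, neg_neg]
      have h6 : ∀ v : D, (1 + v) * (1 - v) = 1 - v * v := by intro v; noncomm_ring
      rw [h6, h3, sub_self]
    have hij0 : F S * F J ≠ 0 := by
      intro h
      rcases mul_eq_zero.1 h with h | h
      · rw [h, mul_zero] at hii
        exact one_ne_zero (neg_eq_zero.1 hii.symm)
      · rw [h, mul_zero] at hjj
        exact one_ne_zero (neg_eq_zero.1 hjj.symm)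
    -- hence `a i + b j = ± 1` commutes with `i` and with `j`
    have key : ∀ v : D, v = φ a * F S + φ b * F J → (∀ z : D, Commute v z) → False := by
      intro v hv hcom
      have h7 : v * F S = F S * v := (hcom (F S)).eq
      have h8 : v * F S = -φ a - φ b * (F S * F J) := by
        rw [hv, add_mul, mul_assoc, hii, mul_assoc, hji, mul_neg_one, mul_neg]
        abel
      have h9 : F S * v = -φ a + φ b * (F S * F J) := by
        rw [hv, mul_add, ← mul_assoc, ← (hc a (F S)).eq, mul_assoc, hii, ← mul_assoc,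
          ← (hc b (F S)).eq, mul_assoc, mul_neg_one]
      have h10 : (2 : D) * (φ b * (F S * F J)) = 0 := by
        have : (2 : D) * (φ b * (F S * F J)) = (-φ a + φ b * (F S * F J)) -
            (-φ a - φ b * (F S * F J)) := by rw [two_mul]; abel
        rw [this, ← h8, ← h9, h7, sub_self]
      have h11 : φ b = 0 := by
        rcases mul_eq_zero.1 ((mul_eq_zero.1 h10).resolve_left h2) with h | h
        · exact h
        · exact absurd h hij0
      have h12 : v * F J = F J * v := (hcom (F J)).eq
      rw [hv, h11, zero_mul, add_zero, mul_assoc, ← mul_assoc (F J), ← (hc a (F J)).eq, mul_assoc,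
        hji, mul_neg] at h12
      have h13 : (2 : D) * (φ a * (F S * F J)) = 0 := by
        rw [two_mul]
        nth_rw 1 [h12]
        rw [neg_add_cancel]
      have h14 : φ a = 0 := by
        rcases mul_eq_zero.1 ((mul_eq_zero.1 h13).resolve_left h2) with h | h
        · exact h
        · exact absurd h hij0
      have h15 : φ a * φ a + φ b * φ b = -1 := by
        rw [← map_mul, ← map_mul, ← map_add, ← sq, ← sq, hab, map_neg, map_one]
      rw [h14, h11, mul_zero, add_zero] at h15
      exact one_ne_zero (neg_eq_zero.1 h15.symm)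
    rcases mul_eq_zero.1 h1 with h | h
    · refine key (-1) ?_ (fun z => (Commute.one_left z).neg_left)
      exact (eq_neg_of_add_eq_zero_right h).symm
    · refine key 1 ?_ (fun z => Commute.one_left z)
      exact sub_eq_zero.1 h
  · subst h0
    exact CharP.charP_to_charZero D

/-- An element of order four outside the subgroup `L` of index two, in a group with cyclic or
quaternion `2`-subgroups containing a quaternion subgroup. -/
theorem exists_order_four {H : Type*} [Group H] [Finite H] (hFPF : HasFPF H) (L : Subgroup H)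
    (hidx : L.index = 2) (x y : H) (hx : x ^ (2 * 2) = 1) (hy : y * y = x ^ 2)
    (hxy : x * y = y * x⁻¹) (hne : x * y ≠ y * x) :
    ∃ t : H, t ∉ L ∧ (t * t) * (t * t) = 1 := by
  haveI : Fact (Nat.Prime 2) := ⟨Nat.prime_two⟩
  obtain ⟨q, hq⟩ : ∃ q : QuaternionGroup 2 →* H, q = quatHom 2 x y hx hy hxy := ⟨_, rfl⟩
  have hqx : q (QuaternionGroup.a 1) = x := by
    rw [hq, quatHom_a]
    have := pw_natCast (2 * 2) x hx 1
    rw [Nat.cast_one, pow_one] at this
    exact this
  have hqy : q (QuaternionGroup.xa 0) = y := by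
    rw [hq, quatHom_xa, pw_zero, mul_one]
  have hqrange : IsPGroup 2 q.range := by
    have h1 : IsPGroup 2 (QuaternionGroup 2) := by
      apply IsPGroup.of_card (n := 3)
      rw [Nat.card_eq_fintype_card, QuaternionGroup.card]
      norm_num
    exact h1.of_surjective q.rangeRestrict q.rangeRestrict_surjective
  obtain ⟨P, hP⟩ := hqrange.exists_le_sylow
  have hxP : x ∈ (P : Subgroup H) := hP ⟨_, hqx⟩
  have hyP : y ∈ (P : Subgroup H) := hP ⟨_, hqy⟩
  have hPnc : ¬ IsCyclic (P : Subgroup H) := by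
    intro hc
    apply hne
    have h1 : (⟨x, hxP⟩ : (P : Subgroup H)) * ⟨y, hyP⟩ = ⟨y, hyP⟩ * ⟨x, hxP⟩ :=
      IsCyclic.commGroup.mul_comm _ _
    exact congrArg Subtype.val h1
  obtain ⟨n, ⟨eP⟩⟩ := (((hFPF.subgroup (P : Subgroup H)).cyclic_or_quaternion Nat.prime_two
    P.2).resolve_left hPnc).2
  obtain ⟨g, hg⟩ : ∃ g : QuaternionGroup (2 ^ n) →* H,
    g = (P : Subgroup H).subtype.comp eP.symm.toMonoidHom := ⟨_, rfl⟩
  have hgrange : (P : Subgroup H) ≤ g.range := by
    intro x hx
    refine ⟨eP ⟨x, hx⟩, ?_⟩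
    rw [hg]
    show ((eP.symm (eP ⟨x, hx⟩) : (P : Subgroup H)) : H) = x
    rw [MulEquiv.symm_apply_apply]
  obtain ⟨k, hk⟩ : ∃ k, g (QuaternionGroup.xa k) ∉ L := by
    by_contra hcon
    push Not at hcon
    have hPL : (P : Subgroup H) ≤ L := by
      refine hgrange.trans ?_
      rintro _ ⟨y, rfl⟩
      rcases y with y | y
      · have h1 : (QuaternionGroup.a y : QuaternionGroup (2 ^ n)) =
            QuaternionGroup.xa 0 * QuaternionGroup.xa (y - ((2 ^ n : ℕ) : ZMod (2 * 2 ^ n))) := by
          rw [QuaternionGroup.xa_mul_xa]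
          congr 1
          ring
        rw [h1, map_mul]
        exact mul_mem (hcon _) (hcon _)
      · exact hcon y
    have h2 := Subgroup.relIndex_mul_index hPL
    have h3 : 2 ∣ (P : Subgroup H).index := by
      rw [← h2, hidx]
      exact dvd_mul_left _ _
    exact P.not_dvd_index h3
  refine ⟨g (QuaternionGroup.xa k), hk, ?_⟩
  rw [← map_mul, ← map_mul]
  have h2 : (QuaternionGroup.xa k : QuaternionGroup (2 ^ n)) * QuaternionGroup.xa k *
      (QuaternionGroup.xa k * QuaternionGroup.xa k) = 1 := by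
    rw [← QuaternionGroup.xa_pow_four k]
    simp only [pow_succ, pow_zero, one_mul, mul_assoc]
  rw [h2, map_one]

section

variable {D H : Type*} [DivisionRing D] [CharZero D] [Group H] [Finite H] (ι : H →* D)
  (hι : Function.Injective ι) (L : Subgroup H) (f : SL25 →* H) (hf : Function.Injective f)
  (hfL : f.range = L)

include hι hf hfL

theorem mem_of_sq (x : H) (hx : ι x * ι x = 1) : x ∈ L := by
  have hF : Function.Injective (ι.comp f) := hι.comp hf
  rcases mul_self_eq_one_iff.1 hx with h | h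
  · rw [hι (h.trans (map_one ι).symm)]
    exact one_mem _
  · have h1 : ι (f (-1)) = -1 := map_neg_one (ι.comp f) hF
    rw [← h1] at h
    rw [hι h, ← hfL]
    exact ⟨_, rfl⟩

/-- No element outside `L` centralizes `L`. -/
theorem mem_of_commute (hidx : L.index = 2) (u : H) (hS : Commute (ι u) (ι (f S)))
    (hT : Commute (ι u) (ι (f T))) : u ∈ L := by
  have hF : Function.Injective (ι.comp f) := hι.comp hf
  have huu : u * u ∈ L := Subgroup.mul_self_mem_of_index_two hidx u
  rw [← hfL] at huu
  obtain ⟨v, hv⟩ := huu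
  have hFv : ι (f v) = ι u * ι u := by rw [hv, map_mul]
  have hv2 := mem_center_iff v ⟨by
    apply hF
    show ι (f (v * S)) = ι (f (S * v))
    rw [map_mul, map_mul, map_mul, map_mul, hFv]
    exact (hS.mul_left hS).eq, by
    apply hF
    show ι (f (v * T)) = ι (f (T * v))
    rw [map_mul, map_mul, map_mul, map_mul, hFv]
    exact (hT.mul_left hT).eq⟩
  have hii : ι (f S) * ι (f S) = -1 := ii (ι.comp f) hF
  have hneg : ι (f (-1)) = -1 := map_neg_one (ι.comp f) hF
  rcases hv2 with h | h
  · apply mem_of_sq ι hι L f hf hfL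
    rw [← hFv, h, map_one, map_one]
  · have h1 : u * f S ∈ L := by
      apply mem_of_sq ι hι L f hf hfL
      rw [map_mul, hS.symm.mul_mul_mul_comm, ← hFv, h, hneg, hii]
      norm_num
    have h2 : u = (u * f S) * (f S)⁻¹ := by rw [mul_inv_cancel_right]
    rw [h2]
    refine mul_mem h1 (inv_mem ?_)
    rw [← hfL]
    exact ⟨_, rfl⟩

/-- The subgroup isomorphic to `SL(2,5)` does not have index two. -/
theorem index_ne_two [L.Normal] (hFPF : HasFPF H) (hidx : L.index = 2) : False := by
  have hF : Function.Injective (ι.comp f) := hι.comp hf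
  have hii : ι (f S) * ι (f S) = -1 := ii (ι.comp f) hF
  have hjj : ι (f J) * ι (f J) = -1 := jj (ι.comp f) hF
  have hji : ι (f J) * ι (f S) = -(ι (f S) * ι (f J)) := ji (ι.comp f) hF
  have hneg : ι (f (-1)) = -1 := map_neg_one (ι.comp f) hF
  have hJ2 : f J * f J = f S ^ 2 := by
    rw [← map_mul, relJ, ← map_pow, sq, relS]
  have hS4 : f S ^ (2 * 2) = 1 := by
    rw [← map_pow, pow_mul, sq S, relS, neg_one_sq, map_one]
  have hSJ : f S * f J = f J * (f S)⁻¹ := by
    rw [← map_inv, ← map_mul, ← map_mul, relSJ]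
  have hne : f S * f J ≠ f J * f S := by
    intro h
    have h3 : ι (f S) * ι (f J) = ι (f J) * ι (f S) := by
      rw [← map_mul, h, map_mul]
    rw [hji] at h3
    have h4 : (2 : D) * (ι (f S) * ι (f J)) = 0 := by
      rw [two_mul]
      nth_rw 1 [h3]
      rw [neg_add_cancel]
    rcases mul_eq_zero.1 ((mul_eq_zero.1 h4).resolve_left two_ne_zero) with h | h
    · rw [h, mul_zero] at hii
      exact one_ne_zero (neg_eq_zero.1 hii.symm)
    · rw [h, mul_zero] at hjj
      exact one_ne_zero (neg_eq_zero.1 hjj.symm)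
  obtain ⟨t, htL, ht4⟩ := exists_order_four hFPF L hidx (f S) (f J) hS4 hJ2 hSJ hne
  have htt : ι t * ι t = -1 := by
    have h1 : (ι t * ι t) * (ι t * ι t) = 1 := by
      rw [← map_mul, ← map_mul, ht4, map_one]
    rcases mul_self_eq_one_iff.1 h1 with h | h
    · exact absurd (mem_of_sq ι hι L f hf hfL t h) htL
    · exact h
  -- conjugation by `t`
  obtain ⟨e, he⟩ : ∃ e : SL25 ≃* L, ∀ x, ((e x : L) : H) = f x := by
    refine ⟨(MonoidHom.ofInjective hf).trans (MulEquiv.subgroupCongr hfL), fun x => rfl⟩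
  obtain ⟨α, hα⟩ : ∃ α : SL25 ≃* SL25, ∀ x, f (α x) = t * f x * t⁻¹ := by
    refine ⟨(e.trans (MulAut.conjNormal t : MulAut L)).trans e.symm, fun x => ?_⟩
    rw [← he, ← he]
    show ((e (e.symm ((MulAut.conjNormal t : MulAut L) (e x))) : L) : H) = _
    rw [MulEquiv.apply_symm_apply, MulAut.conjNormal_apply]
  have hα' : ∀ x, ι t * ι (f x) = ι (f (α x)) * ι t := by
    intro x
    rw [← map_mul, ← map_mul, hα, inv_mul_cancel_right]
  rcases aut_cases α with ⟨z, hzS, hzT⟩ | ⟨y, hy⟩
  · apply htL
    have h1 : f z * t ∈ L := by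
      apply mem_of_commute ι hι L f hf hfL hidx
      · have e1 : ι (f z) * ι (f (α S)) = ι (f S) * ι (f z) := by
          rw [← map_mul, ← map_mul, ← map_mul, ← map_mul, hzS]
        show ι (f z * t) * ι (f S) = ι (f S) * ι (f z * t)
        rw [map_mul, mul_assoc, hα', ← mul_assoc, ← mul_assoc, e1]
      · have e1 : ι (f z) * ι (f (α T)) = ι (f T) * ι (f z) := by
          rw [← map_mul, ← map_mul, ← map_mul, ← map_mul, hzT]
        show ι (f z * t) * ι (f T) = ι (f T) * ι (f z * t)
        rw [map_mul, mul_assoc, hα', ← mul_assoc, ← mul_assoc, e1]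
    have h2 : t = (f z)⁻¹ * (f z * t) := by rw [inv_mul_cancel_left]
    rw [h2]
    refine mul_mem (inv_mem ?_) h1
    rw [← hfL]
    exact ⟨_, rfl⟩
  · have hww := w_sq (ι.comp f) hF
    obtain ⟨G, hG⟩ : ∃ G : SL25 →* D, G = ι.comp f := ⟨_, rfl⟩
    rw [← hG] at hww hF
    have hGf : ∀ x, ι (f x) = G x := fun x => by rw [hG]; rfl
    have h1 : G (α T) + G (α T)⁻¹ = -1 - c G := by
      have h2 : α T = y⁻¹ * (T * T) * y := by
        rw [mul_assoc, ← hy, inv_mul_cancel_left]
      have h2' : (α T)⁻¹ = y⁻¹ * (T * T)⁻¹ * y := by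
        rw [h2]; group
      have h3 : G y⁻¹ * (G (T * T) + G (T * T)⁻¹) * G y = G (α T) + G (α T)⁻¹ := by
        rw [h2', h2, mul_add, add_mul, ← map_mul, ← map_mul, ← map_mul, ← map_mul]
      have h4 : Commute (-1 - c G) (G y) :=
        ((Commute.one_left _).neg_left).sub_left (commute_c G hF y)
      rw [← h3, c_two G hF, mul_assoc, h4.eq, ← mul_assoc, ← map_mul, inv_mul_cancel, map_one,
        one_mul]
    have h2 : ι t * c G = (-1 - c G) * ι t := by
      have h5 : ι t * c G = ι t * G T + ι t * G T⁻¹ := mul_add _ _ _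
      rw [h5, ← hGf, ← hGf, hα', hα', ← add_mul, hGf, hGf, map_inv, h1]
    refine false_of_anticomm (t := ι t) (w := 2 * c G + 1) htt hww ?_
    obtain ⟨cc, hcc⟩ : ∃ cc, cc = c G := ⟨_, rfl⟩
    rw [← hcc] at h2 ⊢
    obtain ⟨tt, htt'⟩ : ∃ tt, tt = ι t := ⟨_, rfl⟩
    rw [← htt'] at h2 ⊢
    have h3 : tt * (2 * cc + 1) = 2 * (tt * cc) + tt := by noncomm_ring
    have h4 : -((2 * cc + 1) * tt) = 2 * ((-1 - cc) * tt) + tt := by noncomm_ring
    rw [h3, h4, h2]

end

/-- No nontrivial element of order coprime to `30` commutes with `SL(2,5)` in a division ring. -/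
theorem eq_bot_of_commute {D H : Type*} [DivisionRing D] [CharZero D] [Group H] [Finite H]
    (ι : H →* D) (hι : Function.Injective ι) (F : SL25 →* D) (hF : Function.Injective F)
    (M : Subgroup H) (hcomm : ∀ m ∈ M, ∀ g : SL25, Commute (ι m) (F g))
    (hcop : (Nat.card M).Coprime 30) : M = ⊥ := by
  rw [← Subgroup.card_eq_one]
  by_contra hM1
  obtain ⟨r, hr, hrM⟩ := Nat.exists_prime_and_dvd hM1
  haveI : Fact r.Prime := ⟨hr⟩
  obtain ⟨m, hm⟩ := exists_prime_orderOf_dvd_card' (G := M) r hrM
  have hr30 : Nat.Coprime r 30 := Nat.Coprime.coprime_dvd_left hrM hcop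
  have hmc : ∀ g : SL25, Commute (ι (m : H)) (F g) := hcomm _ m.2
  have hmcc : Commute (ι (m : H)) (c F) := (hmc T).add_right (hmc T⁻¹)
  have h1 : ι (m : H) = 1 := by
    refine eq_one_of_commute (i := F S) (j := F J) (w := 2 * c F + 1) (ii F hF) (jj F hF) (ji F hF)
      (w_sq F hF) (commute_w F hF S) (commute_w F hF J) ?_ (hmc S) (hmc J) hr ?_ ?_ ?_
    · exact (((Commute.ofNat_right _ 2).mul_right hmcc).add_right (Commute.one_right _)).symm
    · rintro rfl
      norm_num at hr30
    · rintro rfl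
      norm_num at hr30
    · rw [← map_pow, ← Subgroup.coe_pow, ← hm, pow_orderOf_eq_one]
      simp
  have h2 : m = 1 := by
    apply Subtype.ext
    apply hι
    rw [h1, Subgroup.coe_one, map_one]
  rw [h2, orderOf_one] at hm
  exact hr.one_lt.ne hm

/-- **Non-solvable finite subgroups of the multiplicative group of a division ring are isomorphic
to `SL(2,5)`.** -/
theorem main {D : Type*} [DivisionRing D] (H : Subgroup Dˣ) [Finite H]
    (hns : ¬ Group.IsSolvable H) : Nonempty (H ≃* SL25) := by
  have hbot : H ≠ ⊥ := by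
    rintro rfl
    exact hns inferInstance
  have hFPF : HasFPF H := hasFPF_of_exists (Cfsg.Agent.S4293.result H hbot)
  obtain ⟨L, M, hLc, -, -, -, hidx, hcomm, ⟨e⟩, -, hcop⟩ := hFPF.nonsolvable hns
  haveI := hLc
  haveI hLn : L.Normal := inferInstance
  -- the embedding
  obtain ⟨ι, hι⟩ : ∃ ι : H →* D, Function.Injective ι :=
    ⟨(Units.coeHom D).comp H.subtype, fun x y hxy => Subtype.ext (Units.ext hxy)⟩
  obtain ⟨f, hf, hfL⟩ : ∃ f : SL25 →* H, Function.Injective f ∧ f.range = L := by
    refine ⟨L.subtype.comp e.symm.toMonoidHom, L.subtype_injective.comp e.symm.injective, ?_⟩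
    ext x
    constructor
    · rintro ⟨y, rfl⟩
      exact (e.symm y).2
    · intro hx
      refine ⟨e ⟨x, hx⟩, ?_⟩
      show ((e.symm (e ⟨x, hx⟩) : L) : H) = x
      rw [MulEquiv.symm_apply_apply]
  have hF : Function.Injective (ι.comp f) := hι.comp hf
  haveI : CharZero D := charZero (ι.comp f) hF
  have hM : M = ⊥ := by
    refine eq_bot_of_commute ι hι (ι.comp f) hF M ?_ hcop
    intro m hm g
    show ι m * ι (f g) = ι (f g) * ι m
    rw [← map_mul, ← map_mul, hcomm _ (by rw [← hfL]; exact ⟨g, rfl⟩) _ hm]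
  rw [hM, sup_bot_eq] at hidx
  rcases hidx with hidx | hidx
  · rw [Subgroup.index_eq_one] at hidx
    exact ⟨(Subgroup.topEquiv.symm.trans (MulEquiv.subgroupCongr hidx.symm)).trans e⟩
  · exact (index_ne_two ι hι L f hf hfL hFPF hidx).elim

end Cfsg.Agent.H560.DivSub
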