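import Mathlib

/-!
Gauss' formula `4 Φ_l = Y² + l Z²` for a prime `l ≡ 3 (mod 4)`, with `Y`, `Z` rational polynomials.
-/

set_option autoImplicit false

namespace Cfsg.Agent.H560.GaussPoly

open Polynomial

variable (l : ℕ) [hl : Fact l.Prime]

/-- the cyclotomic field -/
abbrev F : Type := CyclotomicField l ℚ

/-- the cyclotomic field is a cyclotomic extension -/
theorem isCyc : IsCyclotomicExtension {l} ℚ (F l) := by
  have h : NeZero ((l : ℕ) : ℚ) := ⟨by exact_mod_cast hl.out.ne_zero⟩
  exact CyclotomicField.isCyclotomicExtension l ℚ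

attribute [local instance] isCyc

/-- a primitive root of unity -/
noncomputable def eta : F l := IsCyclotomicExtension.zeta l ℚ (F l)

theorem eta_prim : IsPrimitiveRoot (eta l) l := IsCyclotomicExtension.zeta_spec l ℚ (F l)

/-- the additive character `a ↦ η ^ a` -/
noncomputable def psi : AddChar (ZMod l) (F l) :=
  AddChar.zmodChar l ((IsPrimitiveRoot.iff_def (eta l) l).mp (eta_prim l)).left

theorem psi_prim : (psi l).IsPrimitive := AddChar.zmodChar_primitive_of_primitive_root l (eta_prim l)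

theorem psi_apply (a : ZMod l) : psi l a = eta l ^ a.val := AddChar.zmodChar_apply _ _

theorem psi_one : psi l 1 = eta l := by
  rw [psi_apply, ZMod.val_one, pow_one]

theorem psi_inj {a b : ZMod l} (h : psi l a = psi l b) : a = b := by
  rw [psi_apply, psi_apply] at h
  exact ZMod.val_injective l ((eta_prim l).pow_inj (ZMod.val_lt a) (ZMod.val_lt b) h)

/-- the quadratic character with values in the cyclotomic field -/
noncomputable def chi : MulChar (ZMod l) (F l) :=
  (quadraticChar (ZMod l)).ringHomComp (Int.castRingHom (F l))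

theorem chi_apply (a : ZMod l) : chi l a = ((quadraticChar (ZMod l) a : ℤ) : F l) := rfl

/-- The product of `X - η ^ a` over the `a` with quadratic character `e`. -/
noncomputable def half (e : ℤ) : (F l)[X] :=
  ∏ a ∈ Finset.univ.filter (fun a : ZMod l => quadraticChar (ZMod l) a = e), (X - C (psi l a))

theorem prod_all : ∏ a : ZMod l, (X - C (psi l a)) = (X ^ l - 1 : (F l)[X]) := by
  classical
  rw [X_pow_sub_one_eq_prod hl.out.pos (eta_prim l)]
  have h1 : Finset.image (psi l) Finset.univ = nthRootsFinset l (1 : F l) := by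
    apply Finset.eq_of_subset_of_card_le
    · intro x hx
      obtain ⟨a, -, rfl⟩ := Finset.mem_image.1 hx
      rw [mem_nthRootsFinset hl.out.pos, psi_apply, ← pow_mul, mul_comm, pow_mul,
        (eta_prim l).pow_eq_one, one_pow]
    · rw [(eta_prim l).card_nthRootsFinset, Finset.card_image_of_injective _ (fun a b h => psi_inj l h),
        Finset.card_univ, ZMod.card]
  rw [← h1, Finset.prod_image (fun a _ b _ h => psi_inj l h)]

theorem half_mul_half (h2 : l ≠ 2) : half l 1 * half l (-1) = cyclotomic l (F l) := by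
  have h1 : (X - 1 : (F l)[X]) ≠ 0 := X_sub_C_ne_zero 1
  apply mul_right_cancel₀ h1
  rw [cyclotomic_prime_mul_X_sub_one, ← prod_all]
  have hchar : ringChar (ZMod l) ≠ 2 := by rw [ZMod.ringChar_zmod_n]; exact h2
  have h3 : (Finset.univ : Finset (ZMod l)) =
      insert 0 ((Finset.univ.filter (fun a : ZMod l => quadraticChar (ZMod l) a = 1)) ∪
        (Finset.univ.filter (fun a : ZMod l => quadraticChar (ZMod l) a = -1))) := by
    ext a
    simp only [Finset.mem_univ, Finset.mem_insert, Finset.mem_union, Finset.mem_filter, true_and,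
      true_iff]
    by_cases ha : a = 0
    · exact Or.inl ha
    · exact Or.inr (quadraticChar_dichotomy ha)
  rw [h3, Finset.prod_insert, Finset.prod_union]
  · rw [AddChar.map_zero_eq_one, mul_comm]
    rfl
  · rw [Finset.disjoint_filter]
    intro a _ ha hb
    rw [ha] at hb
    norm_num at hb
  · simp

/-- The Galois group acts on the powers of `η`. -/
theorem exists_unit (σ : F l ≃ₐ[ℚ] F l) : ∃ b : (ZMod l)ˣ, ∀ a : ZMod l, σ (psi l a) = psi l (b * a) := by
  refine ⟨(eta_prim l).autToPow ℚ σ, fun a => ?_⟩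
  have h1 := (eta_prim l).autToPow_spec ℚ σ
  set b := (eta_prim l).autToPow ℚ σ with hb
  have h2 : σ (psi l a) = (psi l (b : ZMod l)) ^ a.val := by
    rw [psi_apply, map_pow, ← h1, psi_apply]
  rw [h2, ← AddChar.map_nsmul_eq_pow, nsmul_eq_mul, ZMod.natCast_val, ZMod.cast_id, mul_comm]

theorem map_half (σ : F l ≃ₐ[ℚ] F l) (b : (ZMod l)ˣ)
    (hb : ∀ a : ZMod l, σ (psi l a) = psi l (b * a)) (e : ℤ) :
    (half l e).map (σ : F l →+* F l) = half l (quadraticChar (ZMod l) b * e) := by
  unfold half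
  rw [Polynomial.map_prod]
  have hbb : quadraticChar (ZMod l) (b : ZMod l) * quadraticChar (ZMod l) (b : ZMod l) = 1 := by
    rw [← map_mul, ← sq]
    exact quadraticChar_sq_one' b.ne_zero
  refine Finset.prod_bij (fun a _ => (b : ZMod l) * a) ?_ ?_ ?_ ?_
  · intro a ha
    rw [Finset.mem_filter] at ha ⊢
    refine ⟨Finset.mem_univ _, ?_⟩
    rw [map_mul, ha.2]
  · intro a _ a' _ h
    exact b.isUnit.mul_left_cancel h
  · intro c hc
    rw [Finset.mem_filter] at hc
    refine ⟨((b⁻¹ : (ZMod l)ˣ) : ZMod l) * c, ?_, ?_⟩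
    · rw [Finset.mem_filter]
      refine ⟨Finset.mem_univ _, ?_⟩
      rw [map_mul, hc.2, ← mul_assoc, ← map_mul]
      have : (((b⁻¹ : (ZMod l)ˣ) : ZMod l) * (b : ZMod l)) = 1 := by
        rw [← Units.val_mul, inv_mul_cancel, Units.val_one]
      rw [this, map_one, one_mul]
    · rw [← mul_assoc, ← Units.val_mul, mul_inv_cancel, Units.val_one, one_mul]
  · intro a _
    rw [Polynomial.map_sub, map_X, map_C]
    congr 2
    exact hb a

/-- the Gauss sum -/
noncomputable def tau : F l := gaussSum (chi l) (psi l)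

theorem sigma_tau (σ : F l ≃ₐ[ℚ] F l) (b : (ZMod l)ˣ)
    (hb : ∀ a : ZMod l, σ (psi l a) = psi l (b * a)) :
    σ (tau l) = ((quadraticChar (ZMod l) (b : ZMod l) : ℤ) : F l) * tau l := by
  have h1 : σ (tau l) = gaussSum (chi l) ((psi l).mulShift (b : ZMod l)) := by
    unfold tau gaussSum
    rw [map_sum]
    refine Finset.sum_congr rfl fun a _ => ?_
    rw [map_mul, hb a, chi_apply, map_intCast, AddChar.mulShift_apply]
  have h2 := gaussSum_mulShift (chi l) (psi l) b
  have hbb : quadraticChar (ZMod l) (b : ZMod l) * quadraticChar (ZMod l) (b : ZMod l) = 1 := by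
    rw [← map_mul, ← sq]
    exact quadraticChar_sq_one' b.ne_zero
  rw [h1, tau, ← h2, ← mul_assoc, chi_apply, ← Int.cast_mul, hbb, Int.cast_one, one_mul]

theorem tau_sq (h3 : l % 4 = 3) : tau l ^ 2 = -(l : F l) := by
  have hl2 : l ≠ 2 := by omega
  have hchar : ringChar (ZMod l) ≠ 2 := by rw [ZMod.ringChar_zmod_n]; exact hl2
  have hq : (chi l).IsQuadratic := (quadraticChar_isQuadratic (ZMod l)).comp _
  have hne : chi l ≠ 1 := by
    intro h
    obtain ⟨a, ha⟩ := quadraticChar_exists_neg_one' hchar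
    have h4 := congrArg (fun c : MulChar (ZMod l) (F l) => c a) h
    simp only [MulChar.one_apply_coe] at h4
    rw [chi_apply, ha] at h4
    norm_num at h4
  unfold tau
  rw [gaussSum_sq hne hq (psi_prim l), chi_apply, ZMod.card,
    quadraticChar_neg_one hchar, ZMod.card, ZMod.χ₄_nat_three_mod_four h3]
  push_cast
  ring

/-- A polynomial over the cyclotomic field all of whose Galois conjugates are itself is rational. -/
theorem exists_of_fixed (P : (F l)[X]) (h : ∀ σ : F l ≃ₐ[ℚ] F l, P.map (σ : F l →+* F l) = P) :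
    ∃ Q : ℚ[X], Q.map (algebraMap ℚ (F l)) = P := by
  have hG : IsGalois ℚ (F l) := IsCyclotomicExtension.isGalois {l} ℚ (F l)
  have hfd : FiniteDimensional ℚ (F l) := IsCyclotomicExtension.finiteDimensional {l} ℚ (F l)
  rw [← Polynomial.mem_lifts, Polynomial.lifts_iff_coeff_lifts]
  intro n
  rw [IsGalois.mem_range_algebraMap_iff_fixed]
  intro σ
  have := congrArg (fun Q => Q.coeff n) (h σ)
  simpa [coeff_map] using this

/-- **Gauss' formula**. -/
theorem exists_gauss (h3 : l % 4 = 3) :
    ∃ Y Z : ℚ[X], 4 * cyclotomic l ℚ = Y ^ 2 + (l : ℚ[X]) * Z ^ 2 := by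
  have hl2 : l ≠ 2 := by omega
  have hl0 : (l : ℚ) ≠ 0 := by exact_mod_cast hl.out.ne_zero
  have hval : ∀ b : (ZMod l)ˣ, quadraticChar (ZMod l) (b : ZMod l) = 1 ∨
      quadraticChar (ZMod l) (b : ZMod l) = -1 := fun b => quadraticChar_dichotomy b.ne_zero
  obtain ⟨Y, hY⟩ := exists_of_fixed l (half l 1 + half l (-1)) (by
    intro σ
    obtain ⟨b, hb⟩ := exists_unit l σ
    rw [Polynomial.map_add, map_half l σ b hb, map_half l σ b hb]
    rcases hval b with h | h
    · rw [h, one_mul, one_mul]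
    · rw [h, mul_one, neg_one_mul, neg_neg, add_comm])
  obtain ⟨Z, hZ⟩ := exists_of_fixed l (C (tau l) * (half l 1 - half l (-1))) (by
    intro σ
    obtain ⟨b, hb⟩ := exists_unit l σ
    rw [Polynomial.map_mul, Polynomial.map_sub, map_half l σ b hb, map_half l σ b hb, map_C]
    have ht : (σ : F l →+* F l) (tau l) = _ := sigma_tau l σ b hb
    rw [ht]
    rcases hval b with h | h
    · rw [h, one_mul, one_mul, Int.cast_one, one_mul]
    · rw [h, mul_one, neg_one_mul, neg_neg, Int.cast_neg, Int.cast_one, neg_one_mul, C_neg]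
      ring)
  refine ⟨Y, C ((l : ℚ)⁻¹) * Z, ?_⟩
  apply Polynomial.map_injective (algebraMap ℚ (F l)) (algebraMap ℚ (F l)).injective
  have hC : (C (tau l) : (F l)[X]) ^ 2 = -(l : (F l)[X]) := by
    rw [← C_pow, tau_sq l h3, C_neg, C_eq_natCast]
  have hl0' : (l : F l) ≠ 0 := by exact_mod_cast hl.out.ne_zero
  have hinv : (l : (F l)[X]) * C ((l : F l)⁻¹) = 1 := by
    rw [← C_eq_natCast, ← C_mul, mul_inv_cancel₀ hl0', C_1]
  rw [Polynomial.map_mul, Polynomial.map_add, Polynomial.map_mul, Polynomial.map_pow,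
    Polynomial.map_pow, Polynomial.map_mul, hY, hZ, map_C, map_cyclotomic, Polynomial.map_natCast,
    ← half_mul_half l hl2, map_inv₀, map_natCast]
  have h4 : (4 : ℚ[X]).map (algebraMap ℚ (F l)) = 4 := by
    rw [show (4 : ℚ[X]) = ((4 : ℕ) : ℚ[X]) by norm_num, Polynomial.map_natCast]; norm_num
  rw [h4]
  set A := half l 1
  set B := half l (-1)
  set c := (C ((l : F l)⁻¹) : (F l)[X])
  have h5 : (l : (F l)[X]) * (c * (C (tau l) * (A - B))) ^ 2 = -(A - B) ^ 2 := by
    have : (l : (F l)[X]) * (c * (C (tau l) * (A - B))) ^ 2 =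
        ((l : (F l)[X]) * c) * c * (C (tau l)) ^ 2 * (A - B) ^ 2 := by ring
    rw [this, hC, hinv]
    have h6 : (1 : (F l)[X]) * c * -(l : (F l)[X]) = -((l : (F l)[X]) * c) := by ring
    rw [h6, hinv]
    ring
  rw [h5]
  ring

end Cfsg.Agent.H560.GaussPoly
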