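import Cfsg.Agent.H553.OddInd
import Cfsg.Agent.Involutions.BaerSuzuki

/-!
# Conjugacy of odd order Hall subgroups from one good element (helper560)

Let `t ∈ π` and let `z ≠ 1` be a `t`-element of `G` such that for every `g` the group `⟨z, z^g⟩` is a `t`-group
whenever it is a `π`-group (`PZ π t z`). By Baer–Suzuki `z^G ∩ H` lies in `O_t(H)` for each Hall `π`-subgroup `H`;
if two Hall `π`-subgroups share a Sylow `t`-subgroup, they normalise the same `t`-subgroup `X ≠ 1`.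

* `norm_of_set`, `norm_of_PZ` : the statement just described;
* `oddC_of_PZ` : the inductive step for a simple group.
-/

set_option autoImplicit false

namespace Cfsg.Agent.H560.HallKey

open Subgroup Cfsg Cfsg.Agent.H988.CPi Cfsg.Agent.H553.OddHall
open scoped Pointwise

universe u

/-- `P(z)`: for every `g` the group `⟨z, z^g⟩` is a `t`-group whenever it is a `π`-group. -/
def PZ {G : Type*} [Group G] (π : Set ℕ) (t : ℕ) (z : G) : Prop :=
  ∀ g : G, PiN π (Nat.card (closure {z, g * z * g⁻¹} : Subgroup G)) →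
    IsPGroup t (closure {z, g * z * g⁻¹} : Subgroup G)

theorem PZ.of_solvable {G : Type*} [Group G] [Finite G] {π : Set ℕ} (h2 : 2 ∉ π) {t : ℕ} {z : G}
    (h : ∀ g : G, Group.IsSolvable (closure {z, g * z * g⁻¹} : Subgroup G) →
      PiN π (Nat.card (closure {z, g * z * g⁻¹} : Subgroup G)) →
      IsPGroup t (closure {z, g * z * g⁻¹} : Subgroup G)) : PZ π t z :=
  fun g hg => h g (solvable_of_pi h2 hg) hg

section Abs

variable {G : Type*} [Group G] [Finite G] {π : Set ℕ} {t : ℕ} [ht : Fact t.Prime]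

omit [Finite G] ht in
theorem PZ.pairs {z : G} (h : PZ π t z) {x y : G} (hx : IsConj z x) (hy : IsConj z y)
    (hxy : PiN π (Nat.card (closure {x, y} : Subgroup G))) : IsPGroup t (closure {x, y} : Subgroup G) := by
  obtain ⟨a, rfl⟩ := isConj_iff.mp hx
  obtain ⟨b, rfl⟩ := isConj_iff.mp hy
  have h1 : (closure {z, (a⁻¹ * b) * z * (a⁻¹ * b)⁻¹} : Subgroup G).map (MulAut.conj a).toMonoidHom =
      closure {a * z * a⁻¹, b * z * b⁻¹} := by
    rw [MonoidHom.map_closure, Set.image_pair]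
    congr 2
    simp [mul_assoc]
  have h2 : Nat.card (closure {z, (a⁻¹ * b) * z * (a⁻¹ * b)⁻¹} : Subgroup G) =
      Nat.card (closure {a * z * a⁻¹, b * z * b⁻¹} : Subgroup G) := by
    rw [← h1]
    exact (card_map_of_injective (MulAut.conj a).injective).symm
  rw [← h1]
  exact (h (a⁻¹ * b) (by rw [h2]; exact hxy)).map _

omit [Finite G] in
theorem le_normalizer_closure (H : Subgroup G) (S : Set G) (h : ∀ g ∈ H, ∀ x ∈ S, g * x * g⁻¹ ∈ S) :
    H ≤ normalizer ((closure S : Subgroup G) : Set G) := by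
  have key : ∀ g ∈ H, ∀ x ∈ closure S, g * x * g⁻¹ ∈ closure S := by
    intro g hg x hx
    induction hx using closure_induction with
    | mem x hx => exact subset_closure (h g hg x hx)
    | one => simp
    | mul x y _ _ hx hy =>
      have : g * (x * y) * g⁻¹ = (g * x * g⁻¹) * (g * y * g⁻¹) := by group
      rw [this]; exact mul_mem hx hy
    | inv x _ hx =>
      have : g * x⁻¹ * g⁻¹ = (g * x * g⁻¹)⁻¹ := by group
      rw [this]; exact inv_mem hx
  intro g hg
  rw [mem_normalizer_iff]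
  intro x
  refine ⟨key g hg x, fun hx => ?_⟩
  have := key g⁻¹ (H.inv_mem hg) _ hx
  simpa [mul_assoc] using this

/-- Baer–Suzuki in a Hall subgroup. -/
theorem mem_sylow_of_set {Z : Set G} (hZ : ∀ g : G, ∀ x ∈ Z, g * x * g⁻¹ ∈ Z)
    (hP : ∀ x ∈ Z, ∀ y ∈ Z, PiN π (Nat.card (closure {x, y} : Subgroup G)) →
      IsPGroup t (closure {x, y} : Subgroup G)) {H : Subgroup G} (hH : PiN π (Nat.card H)) (T : Sylow t H)
    {x : G} (hx : x ∈ Z) (hxH : x ∈ H) : (⟨x, hxH⟩ : H) ∈ (T : Subgroup H) := by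
  refine Cfsg.Agent.Involutions.BaerSuzuki.subset_sylow (K := {y : H | (y : G) ∈ Z})
    (fun g y hy => hZ g y hy) ?_ T hx
  intro a ha b hb
  have h1 : (closure {a, b} : Subgroup H).map H.subtype = closure {(a : G), (b : G)} := by
    rw [MonoidHom.map_closure, Set.image_pair]; rfl
  have h2 : IsPGroup t ((closure {a, b} : Subgroup H).map H.subtype) := by
    rw [h1]
    refine hP _ ha _ hb (hH.of_dvd ?_)
    rw [← h1]
    exact card_dvd_of_le (map_subtype_le _)
  exact h2.of_equiv ((closure {a, b} : Subgroup H).equivMapOfInjective _ H.subtype_injective).symm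

/-- The Sylow `t`-subgroup of `G` given by one of `H`. -/
theorem exists_sylow_map (htπ : t ∈ π) {H : Subgroup G} (hH : IsPiHall π H) :
    ∃ (T : Sylow t H) (S : Sylow t G), (S : Subgroup G) = (T : Subgroup H).map H.subtype := by
  obtain ⟨T⟩ : Nonempty (Sylow t H) := inferInstance
  have h1 : IsPGroup t ((T : Subgroup H).map H.subtype) := T.2.map _
  have h2 : ¬ t ∣ ((T : Subgroup H).map H.subtype).index := by
    have h3 : ((T : Subgroup H).map H.subtype).index = (T : Subgroup H).index * H.index := by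
      have := index_map (T : Subgroup H) H.subtype
      rwa [H.ker_subtype, sup_bot_eq, range_subtype] at this
    rw [h3, ht.out.dvd_mul, not_or]
    exact ⟨T.not_dvd_index, hH.2 t ht.out htπ⟩
  exact ⟨T, h1.toSylow h2, rfl⟩

theorem norm_of_set (htπ : t ∈ π) {Z : Set G} (hZ : ∀ g : G, ∀ x ∈ Z, g * x * g⁻¹ ∈ Z)
    (hP : ∀ x ∈ Z, ∀ y ∈ Z, PiN π (Nat.card (closure {x, y} : Subgroup G)) →
      IsPGroup t (closure {x, y} : Subgroup G))
    {z : G} (hz : z ∈ Z) (hz1 : z ≠ 1) (hzt : IsPGroup t (zpowers z))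
    {H K : Subgroup G} (hH : IsPiHall π H) (hK : IsPiHall π K) :
    ∃ (g : G) (X : Subgroup G), X ≠ ⊥ ∧ IsPGroup t X ∧ (∃ x ∈ Z, x ∈ X ∧ x ≠ 1) ∧
      H ≤ normalizer (X : Set G) ∧ MulAut.conj g • K ≤ normalizer (X : Set G) := by
  obtain ⟨T, S, hS⟩ := exists_sylow_map (t := t) htπ hH
  obtain ⟨T', S', hS'⟩ := exists_sylow_map (t := t) htπ hK
  obtain ⟨g, hg⟩ := MulAction.exists_smul_eq G S' S
  -- membership in `H`
  have memH : ∀ x ∈ Z, x ∈ H → x ∈ (S : Subgroup G) := by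
    intro x hx hxH
    rw [hS]
    exact ⟨_, mem_sylow_of_set hZ hP hH.1 T hx hxH, rfl⟩
  have memK : ∀ x ∈ Z, x ∈ K → x ∈ (S' : Subgroup G) := by
    intro x hx hxH
    rw [hS']
    exact ⟨_, mem_sylow_of_set hZ hP hK.1 T' hx hxH, rfl⟩
  have leH : (S : Subgroup G) ≤ H := by rw [hS]; exact map_subtype_le _
  have leK : (S' : Subgroup G) ≤ K := by rw [hS']; exact map_subtype_le _
  have hgS : ((g • S' : Sylow t G) : Subgroup G) = MulAut.conj g • (S' : Subgroup G) := rfl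
  have leK' : (S : Subgroup G) ≤ MulAut.conj g • K := by
    rw [← hg, hgS]
    exact pointwise_smul_le_pointwise_smul_iff.mpr leK
  have memK' : ∀ x ∈ Z, x ∈ MulAut.conj g • K → x ∈ (S : Subgroup G) := by
    intro x hx hxK
    rw [← hg, hgS]
    rw [mem_pointwise_smul_iff_inv_smul_mem] at hxK ⊢
    refine memK _ ?_ hxK
    have := hZ g⁻¹ x hx
    simpa [MulAut.smul_def, ← map_inv] using this
  -- the normal subgroup
  refine ⟨g, closure {x | x ∈ Z ∧ x ∈ (S : Subgroup G)}, ?_, ?_, ?_, ?_, ?_⟩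
  · obtain ⟨Q, hQ⟩ := hzt.exists_le_sylow
    obtain ⟨c, hc⟩ := MulAction.exists_smul_eq G Q S
    have h1 : c * z * c⁻¹ ∈ (S : Subgroup G) := by
      rw [← hc]
      change c * z * c⁻¹ ∈ MulAut.conj c • (Q : Subgroup G)
      rw [mem_pointwise_smul_iff_inv_smul_mem]
      have : (MulAut.conj c)⁻¹ • (c * z * c⁻¹) = z := by
        simp [MulAut.smul_def, ← map_inv, mul_assoc]
      rw [this]
      exact hQ (mem_zpowers z)
    intro hb
    have h2 : c * z * c⁻¹ ∈ closure {x | x ∈ Z ∧ x ∈ (S : Subgroup G)} :=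
      subset_closure ⟨hZ c z hz, h1⟩
    rw [hb, mem_bot, conj_eq_one_iff] at h2
    exact hz1 h2
  · refine S.2.to_le ?_
    rw [closure_le]
    exact fun x hx => hx.2
  · obtain ⟨Q, hQ⟩ := hzt.exists_le_sylow
    obtain ⟨c, hc⟩ := MulAction.exists_smul_eq G Q S
    have h1 : c * z * c⁻¹ ∈ (S : Subgroup G) := by
      rw [← hc]
      change c * z * c⁻¹ ∈ MulAut.conj c • (Q : Subgroup G)
      rw [mem_pointwise_smul_iff_inv_smul_mem]
      have : (MulAut.conj c)⁻¹ • (c * z * c⁻¹) = z := by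
        simp [MulAut.smul_def, ← map_inv, mul_assoc]
      rw [this]
      exact hQ (mem_zpowers z)
    refine ⟨_, hZ c z hz, subset_closure ⟨hZ c z hz, h1⟩, ?_⟩
    rw [Ne, conj_eq_one_iff]
    exact hz1
  · have key : ∀ h ∈ H, ∀ x ∈ {x | x ∈ Z ∧ x ∈ (S : Subgroup G)}, h * x * h⁻¹ ∈
        {x | x ∈ Z ∧ x ∈ (S : Subgroup G)} := by
      rintro h hh x ⟨hx1, hx2⟩
      exact ⟨hZ h x hx1, memH _ (hZ h x hx1) (H.mul_mem (H.mul_mem hh (leH hx2)) (H.inv_mem hh))⟩
    exact le_normalizer_closure _ _ key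
  · have key : ∀ h ∈ MulAut.conj g • K, ∀ x ∈ {x | x ∈ Z ∧ x ∈ (S : Subgroup G)}, h * x * h⁻¹ ∈
        {x | x ∈ Z ∧ x ∈ (S : Subgroup G)} := by
      rintro h hh x ⟨hx1, hx2⟩
      exact ⟨hZ h x hx1, memK' _ (hZ h x hx1) (mul_mem (mul_mem hh (leK' hx2)) (inv_mem hh))⟩
    exact le_normalizer_closure _ _ key

theorem norm_of_PZ (htπ : t ∈ π) {z : G} (hP : PZ π t z) (hz1 : z ≠ 1) (hzt : IsPGroup t (zpowers z))
    {H K : Subgroup G} (hH : IsPiHall π H) (hK : IsPiHall π K) :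
    ∃ (g : G) (X : Subgroup G), X ≠ ⊥ ∧ IsPGroup t X ∧ (∃ x, IsConj z x ∧ x ∈ X ∧ x ≠ 1) ∧
      H ≤ normalizer (X : Set G) ∧ MulAut.conj g • K ≤ normalizer (X : Set G) :=
  norm_of_set (Z := {x | IsConj z x}) htπ (fun g x hx => IsConj.trans hx (isConj_iff.mpr ⟨g, rfl⟩))
    (fun _ hx _ hy h => hP.pairs hx hy h) (IsConj.refl z) hz1 hzt hH hK

omit [Finite G] in
theorem zpowers_pgroup {z : G} {k : ℕ} (h : orderOf z = t ^ k) : IsPGroup t (zpowers z) :=
  IsPGroup.of_card (n := k) (by rw [Nat.card_zpowers, h])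

end Abs

section Simple

variable {G : Type u} [Group G] [Finite G] [IsSimpleGroup G]

theorem not_pgroup_of_simple (hnc : ¬ IsMulCommutative G) {t : ℕ} [Fact t.Prime] :
    ¬ IsPGroup t (⊤ : Subgroup G) := by
  intro h
  apply hnc
  have h1 : IsPGroup t G := h.of_equiv topEquiv
  have := h1.center_nontrivial
  have h2 : center G = ⊤ := (Subgroup.Normal.eq_bot_or_eq_top inferInstance).resolve_left
    ((nontrivial_iff_ne_bot _).mp this)
  refine ⟨⟨fun a b => ?_⟩⟩
  have ha : a ∈ center G := by rw [h2]; trivial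
  exact (mem_center_iff.mp ha b).symm

theorem normalizer_ne_top {X : Subgroup G} (h1 : X ≠ ⊥) (h2 : X ≠ ⊤) : normalizer (X : Set G) ≠ ⊤ := by
  intro h
  have hX : X.Normal := normalizer_eq_top_iff.mp h
  rcases hX.eq_bot_or_eq_top with h3 | h3
  · exact h1 h3
  · exact h2 h3

/-- The inductive step from a common normalised subgroup. -/
theorem conj_of_norm (hind : OddInd G) {π : Set ℕ} (h2 : 2 ∉ π) {X : Subgroup G} (hX1 : X ≠ ⊥) (hX2 : X ≠ ⊤)
    {H K : Subgroup G} (hH : IsPiHall π H) (hK : IsPiHall π K) {g : G} (h1 : H ≤ normalizer (X : Set G))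
    (h3 : MulAut.conj g • K ≤ normalizer (X : Set G)) : ∃ g : G, K = MulAut.conj g • H := by
  obtain ⟨c, hc⟩ := hind.conj h2 (normalizer_ne_top hX1 hX2) hH (isPiHall_smul hK g) h1 h3
  refine ⟨g⁻¹ * c, ?_⟩
  rw [map_mul, mul_smul, ← hc, map_inv, inv_smul_smul]

/-- The inductive step, general form: all Hall `π`-subgroups over the Sylow `t`-subgroup `S` normalise `X`. -/
theorem conj_of_common (hind : OddInd G) {π : Set ℕ} (h2 : 2 ∉ π) {t : ℕ} [Fact t.Prime] (htπ : t ∈ π)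
    (S : Sylow t G) (X : Subgroup G) (hX1 : X ≠ ⊥) (hX2 : X ≠ ⊤)
    (h : ∀ H : Subgroup G, IsPiHall π H → (S : Subgroup G) ≤ H → H ≤ normalizer (X : Set G))
    {H K : Subgroup G} (hH : IsPiHall π H) (hK : IsPiHall π K) : ∃ g : G, K = MulAut.conj g • H := by
  have key : ∀ L : Subgroup G, IsPiHall π L → ∃ g : G, (S : Subgroup G) ≤ MulAut.conj g • L := by
    intro L hL
    obtain ⟨T', S', hS'⟩ := exists_sylow_map (t := t) htπ hL
    obtain ⟨g, hg⟩ := MulAction.exists_smul_eq G S' S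
    refine ⟨g, ?_⟩
    have h1 : ((g • S' : Sylow t G) : Subgroup G) = MulAut.conj g • (S' : Subgroup G) := rfl
    rw [← hg, h1]
    refine pointwise_smul_le_pointwise_smul_iff.mpr ?_
    rw [hS']
    exact map_subtype_le _
  obtain ⟨a, ha⟩ := key H hH
  obtain ⟨b, hb⟩ := key K hK
  have h1 := h _ (isPiHall_smul hH a) ha
  have h3 := h _ (isPiHall_smul hK b) hb
  obtain ⟨c, hc⟩ := conj_of_norm hind h2 hX1 hX2 (isPiHall_smul hH a) hK h1 h3
  exact ⟨c * a, by rw [hc, map_mul, mul_smul]⟩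

theorem conj_of_set (hnc : ¬ IsMulCommutative G) (hind : OddInd G) {π : Set ℕ} (h2 : 2 ∉ π)
    {t : ℕ} [Fact t.Prime] (htπ : t ∈ π) {Z : Set G} (hZ : ∀ g : G, ∀ x ∈ Z, g * x * g⁻¹ ∈ Z)
    (hP : ∀ x ∈ Z, ∀ y ∈ Z, PiN π (Nat.card (closure {x, y} : Subgroup G)) →
      IsPGroup t (closure {x, y} : Subgroup G))
    {z : G} (hz : z ∈ Z) (hz1 : z ≠ 1) (hzt : IsPGroup t (zpowers z))
    {H K : Subgroup G} (hH : IsPiHall π H) (hK : IsPiHall π K) : ∃ g : G, K = MulAut.conj g • H := by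
  obtain ⟨g, X, hX1, hX2, -, h1, h3⟩ := norm_of_set htπ hZ hP hz hz1 hzt hH hK
  refine conj_of_norm hind h2 hX1 ?_ hH hK h1 h3
  rintro rfl
  exact not_pgroup_of_simple hnc hX2

theorem conj_of_PZ (hnc : ¬ IsMulCommutative G) (hind : OddInd G) {π : Set ℕ} (h2 : 2 ∉ π)
    {t : ℕ} [Fact t.Prime] (htπ : t ∈ π) {z : G} (hP : PZ π t z) (hz1 : z ≠ 1) (hzt : IsPGroup t (zpowers z))
    {H K : Subgroup G} (hH : IsPiHall π H) (hK : IsPiHall π K) : ∃ g : G, K = MulAut.conj g • H := by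
  obtain ⟨g, X, hX1, hX2, -, h1, h3⟩ := norm_of_PZ htπ hP hz1 hzt hH hK
  refine conj_of_norm hind h2 hX1 ?_ hH hK h1 h3
  rintro rfl
  exact not_pgroup_of_simple hnc hX2

/-- A normal Sylow `t`-subgroup in each Hall subgroup. -/
theorem conj_of_ns (hnc : ¬ IsMulCommutative G) (hind : OddInd G) {π : Set ℕ} (h2 : 2 ∉ π)
    {t : ℕ} [ht : Fact t.Prime] (htπ : t ∈ π) (htG : t ∣ Nat.card G)
    (h : ∀ H : Subgroup G, IsPiHall π H → NS t H)
    {H K : Subgroup G} (hH : IsPiHall π H) (hK : IsPiHall π K) : ∃ g : G, K = MulAut.conj g • H := by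
  obtain ⟨S⟩ : Nonempty (Sylow t G) := inferInstance
  refine conj_of_common hind h2 htπ S S ?_ ?_ ?_ hH hK
  · intro hb
    have h1 := S.card_eq_multiplicity
    rw [hb, card_bot] at h1
    have h3 : (Nat.card G).factorization t = 0 := by
      by_contra hne
      exact absurd h1.symm (Nat.one_lt_pow hne ht.out.one_lt).ne'
    exact absurd htG (by
      intro hd
      have := ht.out.factorization_pos_of_dvd Nat.card_pos.ne' hd
      omega)
  · intro hb
    exact not_pgroup_of_simple hnc (hb ▸ S.2)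
  · intro L hL hSL
    have h1 : ((S.subtype hSL : Sylow t L) : Subgroup L).Normal := (h L hL).sylow_normal _
    exact normal_subgroupOf_iff_le_normalizer hSL |>.mp h1

omit [IsSimpleGroup G] in
theorem isPiHall_inter (π : Set ℕ) (H : Subgroup G) :
    IsPiHall {p | p ∈ π ∧ p.Prime ∧ p ∣ Nat.card G} H ↔ IsPiHall π H := by
  constructor
  · rintro ⟨h1, h3⟩
    exact ⟨fun p hp hd => (h1 p hp hd).1,
      fun p hp hpπ hd => h3 p hp ⟨hpπ, hp, hd.trans (index_dvd_card H)⟩ hd⟩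
  · rintro ⟨h1, h3⟩
    exact ⟨fun p hp hd => ⟨h1 p hp hd, hp, hd.trans (card_subgroup_dvd_card H)⟩,
      fun p hp hpπ hd => h3 p hp hpπ.1 hd⟩

omit [IsSimpleGroup G] in
/-- It suffices to treat sets of at least two odd prime divisors of `|G|`. -/
theorem oddC_of_two (h : ∀ π : Set ℕ, 2 ∉ π → (∀ p ∈ π, p.Prime ∧ p ∣ Nat.card G) →
      (∃ s ∈ π, ∃ t ∈ π, s < t) → ∀ H K : Subgroup G, IsPiHall π H → IsPiHall π K →
        ∃ g : G, K = MulAut.conj g • H) : OddC G := by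
  intro π h2 H K hH hK
  rw [← isPiHall_inter π] at hH hK
  set σ : Set ℕ := {p | p ∈ π ∧ p.Prime ∧ p ∣ Nat.card G} with hσ
  have hσ2 : 2 ∉ σ := fun hx => h2 hx.1
  by_cases hlt : ∃ s ∈ σ, ∃ t ∈ σ, s < t
  · exact h σ hσ2 (fun p hp => hp.2) hlt H K hH hK
  push Not at hlt
  by_cases hne : ∃ t, t ∈ σ
  · obtain ⟨t, ht⟩ := hne
    have htp : Fact t.Prime := ⟨ht.2.1⟩
    have heq : ∀ s ∈ σ, s = t := fun s hs => le_antisymm (hlt t ht s hs) (hlt s hs t ht)
    have key : ∀ L : Subgroup G, IsPiHall σ L → ∃ S : Sylow t G, (S : Subgroup G) = L := by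
      intro L hL
      have h1 : IsPGroup t L := by
        rw [IsPGroup.iff_card]
        refine ⟨(Nat.card L).primeFactorsList.length, ?_⟩
        refine Nat.eq_prime_pow_of_unique_prime_dvd Nat.card_pos.ne' ?_
        intro d hd hdL
        exact heq d (hL.1 d hd hdL)
      exact ⟨h1.toSylow (hL.2 t ht.2.1 ht), rfl⟩
    obtain ⟨S, hS⟩ := key H hH
    obtain ⟨S', hS'⟩ := key K hK
    obtain ⟨g, hg⟩ := MulAction.exists_smul_eq G S S'
    exact ⟨g, by rw [← hS, ← hS', ← hg]; rfl⟩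
  · push Not at hne
    have key : ∀ L : Subgroup G, IsPiHall σ L → L = ⊥ := by
      intro L hL
      rw [← card_eq_one]
      by_contra hc
      obtain ⟨p, hp, hd⟩ := Nat.exists_prime_and_dvd hc
      exact hne p (hL.1 p hp hd)
    exact ⟨1, by rw [key H hH, key K hK]; simp⟩

/-- **KEY**: the inductive step for a simple group. -/
theorem oddC_of_PZ (hnc : ¬ IsMulCommutative G) (hind : OddInd G)
    (h : ∀ π : Set ℕ, 2 ∉ π → (∀ p ∈ π, p.Prime ∧ p ∣ Nat.card G) → (∃ s ∈ π, ∃ t ∈ π, s < t) →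
      (∃ H : Subgroup G, IsPiHall π H) →
      ∃ t ∈ π, (∀ H : Subgroup G, IsPiHall π H → NS t H) ∨
        ∃ z : G, z ≠ 1 ∧ IsPGroup t (zpowers z) ∧ PZ π t z) : OddC G := by
  refine oddC_of_two fun π h2 hπ hlt H K hH hK => ?_
  obtain ⟨t, ht, h1⟩ := h π h2 hπ hlt ⟨H, hH⟩
  have htp : Fact t.Prime := ⟨(hπ t ht).1⟩
  rcases h1 with h1 | ⟨z, hz1, hzt, hP⟩
  · exact conj_of_ns hnc hind h2 ht (hπ t ht).2 h1 hH hK
  · exact conj_of_PZ hnc hind h2 ht hP hz1 hzt hH hK

end Simple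

end Cfsg.Agent.H560.HallKey
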