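import Cfsg.Agent.H560.SL25Facts
import Cfsg.Agent.H560.DivRing
import Mathlib

/-!
The binary icosahedral group `SL(2,5)` inside a division ring: the central square root of `5`.
-/

set_option autoImplicit false
set_option linter.style.haveILetI false

namespace Cfsg.Agent.H560.Icos

open Cfsg.Agent.PermutationGroups.AutSL25 Cfsg.Agent.H560.SL25Facts Cfsg.Agent.H560.DivRing

variable {D : Type*} [DivisionRing D] (F : SL25 →* D)

theorem map_neg_one (hF : Function.Injective F) : F (-1) = -1 := by
  have h1 : F (-1) * F (-1) = 1 := by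
    rw [← map_mul, neg_mul_neg, one_mul, map_one]
  rcases mul_self_eq_one_iff.1 h1 with h | h
  · exfalso
    apply neg_one_ne
    apply hF
    rw [h, map_one]
  · exact h

theorem ii (hF : Function.Injective F) : F S * F S = -1 := by
  rw [← map_mul, relS, map_neg_one F hF]

theorem jj (hF : Function.Injective F) : F J * F J = -1 := by
  rw [← map_mul, relJ, map_neg_one F hF]

theorem ji (hF : Function.Injective F) : F J * F S = -(F S * F J) := by
  rw [← map_mul, relJS, map_mul, map_neg_one F hF, map_mul, neg_one_mul]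

theorem two_ne (hF : Function.Injective F) : (2 : D) ≠ 0 := by
  intro h
  have h1 : (-1 : D) = 1 := by
    have h2 : (1 : D) + 1 = 0 := by rw [one_add_one_eq_two]; exact h
    exact neg_eq_of_add_eq_zero_left h2
  apply neg_one_ne
  apply hF
  rw [map_neg_one F hF, h1, map_one]

/-- the trace of `T` -/
def c : D := F T + F T⁻¹

theorem inv_mul_T : F T⁻¹ * F T = 1 := by rw [← map_mul, inv_mul_cancel, map_one]

theorem T_mul_inv : F T * F T⁻¹ = 1 := by rw [← map_mul, mul_inv_cancel, map_one]

theorem W_rel (hF : Function.Injective F) :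
    (F S * F T) * (F S * F T) = F S * F T - 1 := by
  obtain ⟨W, hW⟩ : ∃ W, W = F S * F T := ⟨_, rfl⟩
  have h3 : W * W * W = -1 := by
    rw [hW, ← map_mul, ← map_mul, ← map_mul, relST, map_neg_one F hF]
  have h1 : W ≠ -1 := by
    rw [hW, ← map_mul, ← map_neg_one F hF]
    intro h
    exact ST_ne (hF h)
  have h4 : (W + 1) * (W * W - W + 1) = 0 := by
    have : (W + 1) * (W * W - W + 1) = W * W * W + 1 := by noncomm_ring
    rw [this, h3, neg_add_cancel]
  have h5 := (mul_eq_zero.1 h4).resolve_left (fun h => h1 (eq_neg_of_add_eq_zero_left h))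
  rw [← hW]
  have h6 : W * W = (W * W - W + 1) + (W - 1) := by abel
  rw [h6, h5, zero_add]

theorem commute_S (hF : Function.Injective F) : Commute (c F) (F S) := by
  have hii := ii F hF
  have hW := W_rel F hF
  obtain ⟨i, hi⟩ : ∃ i, i = F S := ⟨_, rfl⟩
  obtain ⟨b, hb⟩ : ∃ b, b = F T := ⟨_, rfl⟩
  obtain ⟨b', hb'⟩ : ∃ b', b' = F T⁻¹ := ⟨_, rfl⟩
  have h1 : b' * b = 1 := by rw [hb', hb]; exact inv_mul_T F
  have hb0 : b ≠ 0 := by
    rintro rfl
    rw [mul_zero] at h1
    exact zero_ne_one h1
  rw [← hi] at hii hW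
  rw [← hb] at hW
  have h2 : b' = (1 - i * b) * i := by
    apply mul_right_cancel₀ hb0
    rw [h1, mul_assoc, sub_mul, one_mul, hW]
    abel
  have hc : c F = b + b' := by rw [hb, hb']; rfl
  rw [hc, ← hi]
  show (b + b') * i = i * (b + b')
  rw [h2]
  have e1 : (b + (1 - i * b) * i) * i = b * i + i * i - i * b * (i * i) := by noncomm_ring
  have e2 : i * (b + (1 - i * b) * i) = i * b + i * i - (i * i) * b * i := by noncomm_ring
  rw [e1, e2, hii]
  noncomm_ring

theorem commute_T : Commute (c F) (F T) := by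
  show (F T + F T⁻¹) * F T = F T * (F T + F T⁻¹)
  rw [add_mul, mul_add, inv_mul_T, T_mul_inv]

/-- the subgroup of elements commuting with a given element of `D` -/
def cent (x : D) : Subgroup SL25 where
  carrier := {g | Commute x (F g)}
  mul_mem' := by
    intro a b ha hb
    show Commute x (F (a * b))
    rw [map_mul]
    exact Commute.mul_right ha hb
  one_mem' := by
    show Commute x (F 1)
    rw [map_one]
    exact Commute.one_right x
  inv_mem' := by
    intro a ha
    have h1 : F a⁻¹ = (F a)⁻¹ := by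
      apply eq_inv_of_mul_eq_one_left
      rw [← map_mul, inv_mul_cancel, map_one]
    show Commute x (F a⁻¹)
    rw [h1]
    exact Commute.inv_right₀ ha

theorem commute_of (x : D) (h1 : Commute x (F S)) (h2 : Commute x (F T)) (g : SL25) :
    Commute x (F g) := by
  have h3 : Subgroup.closure ({S, T} : Set SL25) ≤ cent F x := by
    rw [Subgroup.closure_le]
    rintro y (rfl | hy)
    · exact h1
    · rw [Set.mem_singleton_iff] at hy
      rw [hy]
      exact h2
  rw [closure_eq_top] at h3
  exact h3 (Subgroup.mem_top g)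

theorem commute_c (hF : Function.Injective F) (g : SL25) : Commute (c F) (F g) :=
  commute_of F _ (commute_S F hF) (commute_T F) g

theorem T_pow (hF : Function.Injective F) :
    F T * F T * F T * F T + F T * F T * F T + F T * F T + F T + 1 = 0 := by
  obtain ⟨b, hb⟩ : ∃ b, b = F T := ⟨_, rfl⟩
  rw [← hb]
  have h1 : b * b * b * b * b = 1 := by
    rw [hb, ← map_mul, ← map_mul, ← map_mul, ← map_mul, relT, map_one]
  have h2 : b ≠ 1 := by
    rw [hb, ← map_one F]
    intro h
    exact T_ne (hF h)
  have h3 : (b - 1) * (b * b * b * b + b * b * b + b * b + b + 1) = 0 := by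
    have : (b - 1) * (b * b * b * b + b * b * b + b * b + b + 1) = b * b * b * b * b - 1 := by
      noncomm_ring
    rw [this, h1, sub_self]
  exact (mul_eq_zero.1 h3).resolve_left (sub_ne_zero.2 h2)

theorem T_inv : F T⁻¹ = F T * F T * F T * F T := by
  rw [← map_mul, ← map_mul, ← map_mul]
  congr 1
  rw [inv_eq_iff_mul_eq_one, ← mul_assoc, ← mul_assoc, ← mul_assoc, relT]

/-- `c² + c = 1`. -/
theorem c_rel (hF : Function.Injective F) : c F * c F + c F = 1 := by
  have h5 := T_pow F hF
  have h6 : c F = F T + F T * F T * F T * F T := by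
    show F T + F T⁻¹ = _
    rw [T_inv]
  have h7 : F T * F T * F T * F T * F T = 1 := by
    rw [← map_mul, ← map_mul, ← map_mul, ← map_mul, relT, map_one]
  rw [h6]
  obtain ⟨b, hb⟩ : ∃ b, b = F T := ⟨_, rfl⟩
  rw [← hb] at h5 h7 ⊢
  have h8 : (b + b * b * b * b) * (b + b * b * b * b) + (b + b * b * b * b) =
      (b * b * b * b + b * b * b + b * b + b + 1) - 1 + 2 * (b * b * b * b * b) +
        (b * b * b * b * b) * (b * b * b) - b * b * b := by noncomm_ring
  rw [h8, h5, h7]
  noncomm_ring

/-- `w = 2 c + 1` is a square root of `5`. -/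
theorem w_sq (hF : Function.Injective F) : (2 * c F + 1) * (2 * c F + 1) = 5 := by
  have h1 : (2 * c F + 1) * (2 * c F + 1) = 4 * (c F * c F + c F) + 1 := by noncomm_ring
  rw [h1, c_rel F hF]
  norm_num

theorem commute_w (hF : Function.Injective F) (g : SL25) : Commute (2 * c F + 1) (F g) :=
  ((Commute.ofNat_left 2 _).mul_left (commute_c F hF g)).add_left (Commute.one_left _)

/-- `T² + T⁻² = -1 - c`. -/
theorem c_two (hF : Function.Injective F) : F (T * T) + F (T * T)⁻¹ = -1 - c F := by
  have h1 : F (T * T) = F T * F T := map_mul _ _ _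
  have h2 : F (T * T)⁻¹ = F T⁻¹ * F T⁻¹ := by rw [mul_inv_rev, map_mul]
  have h3 : c F * c F = F T * F T + F T⁻¹ * F T⁻¹ + 2 := by
    show (F T + F T⁻¹) * (F T + F T⁻¹) = _
    have h0 : (2 : D) = 1 + 1 := one_add_one_eq_two.symm
    rw [add_mul, mul_add, mul_add, inv_mul_T, T_mul_inv, h0]
    abel
  have h4 := c_rel F hF
  rw [h1, h2]
  have h5 : F T * F T + F T⁻¹ * F T⁻¹ = c F * c F + c F - 2 - c F := by
    rw [h3]; abel
  rw [h5, h4]
  norm_num

end Cfsg.Agent.H560.Icos
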