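import Cfsg.Agent.H838.KW.TwoDef
import Cfsg.Agent.LieClassical.HermSiegel
import Cfsg.Agent.GTwoFour.Tools
import Cfsg.Agent.S0279

/-!
# S4243, cross characteristic, `PSU_n(3)`, `p = 5` (task K7, helper560)

A Sylow `5`-subgroup `P` of `SU_n(3)` acts faithfully on a maximal `P`-invariant totally singular subspace `W`: a
central element `z` of order `5` of `P` fixing `W` pointwise would give the totally singular `P`-invariant subspace
`{v | z v + z⁻¹ v = c v}`, `c² + c - 1 = 0`, orthogonal to `C_V(z)`.  So only the identity of `P` centralises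
`rad W = {g | g = 1 on W and on V / W}`.
-/

set_option autoImplicit false
set_option linter.unusedSectionVars false

namespace Cfsg.Agent.H560.KWPsu3

open Cfsg Subgroup Cfsg.Agent.H146.KW Cfsg.Agent.H838.KW
open Cfsg.Agent.LieClassical.HermBasic Cfsg.Agent.LieClassical.HermSiegel

section gen

variable {F : Type} [Field F] {q n : ℕ}

/-- the elements fixing `W` pointwise and acting trivially modulo `W` -/
def rad (q : ℕ) (W : Submodule F (Fin n → F)) : Subgroup (SU n F q) where
  carrier := {g | (∀ w ∈ W, act g w = w) ∧ ∀ v, act g v - v ∈ W}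
  one_mem' := ⟨fun w _ => act_one w, fun v => by rw [act_one, sub_self]; exact W.zero_mem⟩
  mul_mem' := by
    rintro g h ⟨hg1, hg2⟩ ⟨hh1, hh2⟩
    refine ⟨fun w hw => by rw [act_mul, hh1 w hw, hg1 w hw], fun v => ?_⟩
    have h1 : act (g * h) v - v = act g (act h v - v) + (act g v - v) := by
      rw [act_mul, act_sub]; abel
    rw [h1, hg1 _ (hh2 v)]
    exact W.add_mem (hh2 v) (hg2 v)
  inv_mem' := by
    rintro g ⟨hg1, hg2⟩
    have hinv : ∀ w ∈ W, act g⁻¹ w = w := fun w hw => by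
      conv_lhs => rw [← hg1 w hw]
      exact act_inv_act g w
    refine ⟨hinv, fun v => ?_⟩
    have h1 : act g⁻¹ v - v = -(act g⁻¹ (act g v - v)) := by
      rw [act_sub, act_inv_act]; abel
    rw [h1, hinv _ (hg2 v)]
    exact W.neg_mem (hg2 v)

theorem mem_rad {W : Submodule F (Fin n → F)} {g : SU n F q} :
    g ∈ rad q W ↔ (∀ w ∈ W, act g w = w) ∧ ∀ v, act g v - v ∈ W := Iff.rfl

theorem act_pow_rad {W : Submodule F (Fin n → F)} {g : SU n F q} (hg : g ∈ rad q W) (m : ℕ) (v : Fin n → F) :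
    act (g ^ m) v = v + m • (act g v - v) := by
  induction m with
  | zero => rw [pow_zero, act_one, zero_smul, add_zero]
  | succ m ih =>
    rw [pow_succ', act_mul, ih, act_add, (mem_rad.1 hg).1 _ (W.smul_of_tower_mem m ((mem_rad.1 hg).2 v)), succ_nsmul]
    abel

theorem isPGroup_rad {p : ℕ} [CharP F p] (W : Submodule F (Fin n → F)) : IsPGroup p (rad (n := n) q W) := by
  intro g
  refine ⟨1, Subtype.ext ?_⟩
  rw [pow_one]
  apply ext_act
  intro v
  show act ((g : SU n F q) ^ p) v = act 1 v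
  rw [act_pow_rad g.2, act_one, ← Nat.cast_smul_eq_nsmul F, CharP.cast_eq_zero, zero_smul, add_zero]

theorem conj_mem_rad {W : Submodule F (Fin n → F)} {s : SU n F q} (hs : ∀ w ∈ W, act s w ∈ W)
    (hs' : ∀ w ∈ W, act s⁻¹ w ∈ W) {a : SU n F q} (ha : a ∈ rad q W) : s * a * s⁻¹ ∈ rad q W := by
  refine ⟨fun w hw => ?_, fun v => ?_⟩
  · rw [act_mul, act_mul, (mem_rad.1 ha).1 _ (hs' w hw), act_act_inv]
  · have h1 : act (s * a * s⁻¹) v - v = act s (act a (act s⁻¹ v) - act s⁻¹ v) := by
      rw [act_mul, act_mul, act_sub, act_act_inv]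
    rw [h1]
    exact hs _ ((mem_rad.1 ha).2 _)

/-- the `c`-eigenspace of `z + z⁻¹` -/
def eig (z : SU n F q) (c : F) : Submodule F (Fin n → F) where
  carrier := {v | act z v + act z⁻¹ v = c • v}
  zero_mem' := by
    show act z 0 + act z⁻¹ 0 = c • (0 : Fin n → F)
    rw [act_zero, act_zero, add_zero, smul_zero]
  add_mem' := by
    intro a b ha hb
    have ha' : act z a + act z⁻¹ a = c • a := ha
    have hb' : act z b + act z⁻¹ b = c • b := hb
    show act z (a + b) + act z⁻¹ (a + b) = c • (a + b)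
    rw [act_add, act_add, smul_add, ← ha', ← hb']
    abel
  smul_mem' := by
    intro x a ha
    have ha' : act z a + act z⁻¹ a = c • a := ha
    show act z (x • a) + act z⁻¹ (x • a) = c • (x • a)
    rw [act_smul, act_smul, ← smul_add, ha', smul_comm]

theorem mem_eig {z : SU n F q} {c : F} {v : Fin n → F} : v ∈ eig z c ↔ act z v + act z⁻¹ v = c • v := Iff.rfl

theorem act_inv_of_fix {z : SU n F q} {v : Fin n → F} (h : act z v = v) : act z⁻¹ v = v := by
  conv_lhs => rw [← h]
  exact act_inv_act z v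

end gen

section three

variable {F : Type} [Field F] [Fintype F] [CharP F 3] {n : ℕ}

theorem three_zero : (3 : F) = 0 := by
  have := CharP.cast_eq_zero F 3
  exact_mod_cast this

theorem card_eq (hF : Fintype.card F = 9) : Fintype.card F = 3 ^ 2 := by rw [hF]; norm_num

/-- a root of `x² + x - 1` -/
theorem exists_root (hF : Fintype.card F = 9) : ∃ c : F, c * c + c - 1 = 0 := by
  have h1 : IsSquare (-1 : F) := by
    rw [FiniteField.isSquare_neg_one_iff, hF]
    norm_num
  obtain ⟨i, hi⟩ := h1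
  refine ⟨1 - i, ?_⟩
  have h3 := three_zero (F := F)
  linear_combination -hi - i * h3

section root

variable {c : F} (hc : c * c + c - 1 = 0)
include hc

theorem root_cube : c ^ 3 = -1 - c := by
  have h3 := three_zero (F := F)
  linear_combination (c - 1) * hc + c * h3

theorem root_ne : c ≠ c ^ 3 := by
  rw [root_cube hc]
  intro h
  have h3 := three_zero (F := F)
  have h1 : c = 1 := by linear_combination -h + c * h3
  rw [h1] at hc
  have : (1 : F) = 0 := by linear_combination hc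
  exact one_ne_zero this

theorem root_ne_two : c ≠ 2 := by
  rintro rfl
  have h3 := three_zero (F := F)
  have : (1 : F) = 0 := by linear_combination -hc + 2 * h3
  exact one_ne_zero this

theorem cube_ne_two : c ^ 3 ≠ 2 := by
  rw [root_cube hc]
  intro h
  have h3 := three_zero (F := F)
  have h1 : c = 0 := by linear_combination -h - h3
  rw [h1] at hc
  have : (1 : F) = 0 := by linear_combination -hc
  exact one_ne_zero this

theorem root_other : (-1 - c) * (-1 - c) + (-1 - c) - 1 = 0 := by linear_combination hc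

end root

theorem herm_eig (hF : Fintype.card F = 9) {z : SU n F 3} {c : F} {v w : Fin n → F} {b : F} (hv : v ∈ eig z b)
    (hw : w ∈ eig z c) (hbc : b ≠ c ^ 3) : hermForm n F 3 v w = 0 := by
  have hF' := card_eq hF
  have h1 : hermForm n F 3 (act z v + act z⁻¹ v) w = hermForm n F 3 v (act z w + act z⁻¹ w) := by
    rw [herm_add_left, herm_add_right hF', herm_act_left, herm_act_left, inv_inv, add_comm]
  rw [mem_eig.1 hv, mem_eig.1 hw, herm_smul_left, herm_smul_right] at h1
  have h2 : (b - c ^ 3) * hermForm n F 3 v w = 0 := by linear_combination h1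
  exact (mul_eq_zero.1 h2).resolve_left (sub_ne_zero.2 hbc)

theorem fix_mem_eig {z : SU n F 3} {v : Fin n → F} (h : act z v = v) : v ∈ eig z 2 := by
  rw [mem_eig, h, act_inv_of_fix h, two_smul]

/-- An element of order `5` has a nonzero eigenspace. -/
theorem exists_eig (hF : Fintype.card F = 9) {z : SU n F 3} (h5 : z ^ 5 = 1) (h1 : z ≠ 1) :
    ∃ c : F, c * c + c - 1 = 0 ∧ ∃ w ∈ eig z c, w ≠ 0 := by
  obtain ⟨c, hc⟩ := exists_root hF
  obtain ⟨v, hv⟩ : ∃ v, act z v ≠ v := by
    by_contra hcon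
    push Not at hcon
    exact h1 (ext_act fun v => by rw [hcon, act_one])
  obtain ⟨f, hf⟩ : ∃ f : (Fin n → F) → (Fin n → F), ∀ v, f v = act z v + act z⁻¹ v := ⟨_, fun _ => rfl⟩
  have fadd : ∀ x y, f (x + y) = f x + f y := fun x y => by simp only [hf, act_add]; abel
  have fsmul : ∀ (a : F) x, f (a • x) = a • f x := fun a x => by simp only [hf, act_smul, smul_add]
  obtain ⟨u, hu⟩ : ∃ u, u = act z v - v := ⟨_, rfl⟩
  have hu0 : u ≠ 0 := by rw [hu]; exact sub_ne_zero.2 hv
  have key : f (f u) + f u - u = 0 := by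
    have e1 : act z⁻¹ (act z v) = v := act_inv_act z v
    have e2 : act z (act z⁻¹ v) = v := act_act_inv z v
    have e3 : act z⁻¹ (act z⁻¹ v) = act z (act z (act z v)) := by
      have h2 : z⁻¹ * z⁻¹ = z * (z * z) := by
        have : z * (z * z) * (z * z) = 1 := by rw [← h5]; simp only [pow_succ, pow_zero, one_mul, mul_assoc]
        have h3 := eq_inv_of_mul_eq_one_left this
        rw [h3, mul_inv_rev]
      rw [← act_mul, h2, act_mul, act_mul]
    have e4 : act z⁻¹ (act z (act z v)) = act z v := by rw [act_inv_act]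
    simp only [hf, hu, act_add, act_sub, e1, e2, e3, e4]
    abel
  have key' : f (f u + (1 + c) • u) = c • (f u + (1 + c) • u) := by
    have h2 : f (f u) = u - f u := by
      rw [eq_sub_iff_add_eq]
      exact sub_eq_zero.1 key
    have h3 : c * (1 + c) = 1 := by linear_combination hc
    rw [fadd, fsmul, h2, smul_add c, smul_smul, h3, add_smul, one_smul, one_smul]
    abel
  by_cases hw : f u + (1 + c) • u = 0
  · refine ⟨-1 - c, root_other hc, u, ?_, hu0⟩
    rw [mem_eig, ← hf]
    rw [eq_neg_of_add_eq_zero_left hw, ← neg_smul]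
    congr 1
    ring
  · refine ⟨c, hc, _, ?_, hw⟩
    rw [mem_eig, ← hf]
    exact key'

/-- `p`-elements commuting with `rad W` fix `W` pointwise. -/
theorem fix_of_commute (hF : Fintype.card F = 9) {W : Submodule F (Fin n → F)}
    (hW : ∀ u ∈ W, ∀ v ∈ W, hermForm n F 3 u v = 0) {s : SU n F 3} {k : ℕ} (hs : s ^ 5 ^ k = 1)
    (hc : ∀ a ∈ rad 3 W, a * s = s * a) : ∀ u ∈ W, act s u = u := by
  have hF' := card_eq hF
  intro u hu
  by_cases hu0 : u = 0
  · rw [hu0, act_zero]
  obtain ⟨μ, hμ0, hμ⟩ := exists_trace_zero_ne hF'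
  have hsg : IsSiegel 3 u 0 μ := ⟨hW u hu u hu, herm_zero_left u, by rw [herm_zero_left, add_zero, hμ]⟩
  have hmem : siegel hF' u 0 μ hsg ∈ rad 3 W := by
    refine ⟨fun w hw => ?_, fun v => ?_⟩
    · rw [act_siegel_of_orth hF' hsg (hW w hw u hu) (herm_zero_right hF' w)]
    · rw [act_siegel, herm_zero_right hF', smul_zero, add_zero, sub_zero, add_sub_cancel_left]
      exact W.smul_mem _ hu
  obtain ⟨v, hv⟩ := exists_herm_ne_zero hF' hu0
  have hv' : hermForm n F 3 v u ≠ 0 := fun h => hv (herm_eq_zero_swap hF' h)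
  have h1 : act (siegel hF' u 0 μ hsg) (act s v) = act s (act (siegel hF' u 0 μ hsg) v) := by
    rw [← act_mul, ← act_mul, hc _ hmem]
  rw [act_siegel, act_siegel, herm_zero_right hF', herm_zero_right hF', smul_zero, smul_zero, add_zero, add_zero,
    sub_zero, sub_zero, act_add, act_smul] at h1
  have h2 := add_left_cancel h1
  obtain ⟨l, hl⟩ : ∃ l : F, act s u = l • u := by
    refine ⟨hermForm n F 3 (act s v) u / hermForm n F 3 v u, ?_⟩
    have h3 : (μ * hermForm n F 3 v u) ≠ 0 := mul_ne_zero hμ0 hv'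
    have h4 : act s u = (μ * hermForm n F 3 v u)⁻¹ • ((μ * hermForm n F 3 v u) • act s u) := by
      rw [smul_smul, inv_mul_cancel₀ h3, one_smul]
    rw [h4, ← h2, smul_smul]
    congr 1
    field_simp
  have hpow : ∀ m : ℕ, act (s ^ m) u = l ^ m • u := by
    intro m
    induction m with
    | zero => rw [pow_zero, pow_zero, act_one, one_smul]
    | succ m ih => rw [pow_succ, act_mul, hl, act_smul, ih, smul_smul, pow_succ, mul_comm]
  have hl0 : l ≠ 0 := by
    rintro rfl
    rw [zero_smul, act_eq_zero] at hl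
    exact hu0 hl
  have h5 : l ^ 5 ^ k = 1 := by
    have h6 := hpow (5 ^ k)
    rw [hs, act_one] at h6
    have h7 : (l ^ 5 ^ k - 1) • u = 0 := by rw [sub_smul, one_smul, ← h6, sub_self]
    exact sub_eq_zero.1 ((smul_eq_zero.1 h7).resolve_right hu0)
  have h8 : l ^ 8 = 1 := by
    have := FiniteField.pow_card_sub_one_eq_one l hl0
    rwa [hF] at this
  have h9 : l = 1 := by
    have h10 : orderOf l ∣ Nat.gcd (5 ^ k) 8 := Nat.dvd_gcd (orderOf_dvd_of_pow_eq_one h5) (orderOf_dvd_of_pow_eq_one h8)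
    have h11 : Nat.gcd (5 ^ k) 8 = 1 := Nat.Coprime.pow_left _ (by norm_num)
    rw [h11, Nat.dvd_one, orderOf_eq_one_iff] at h10
    exact h10
  rw [hl, h9, one_smul]

/-- the elements of `P` fixing `W` pointwise -/
def fixP (P : Subgroup (SU n F 3)) (W : Submodule F (Fin n → F)) : Subgroup P where
  carrier := {g | ∀ w ∈ W, act (g : SU n F 3) w = w}
  one_mem' := fun w _ => act_one w
  mul_mem' := by
    intro g h hg hh w hw
    show act ((g : SU n F 3) * (h : SU n F 3)) w = w
    rw [act_mul, hh w hw, hg w hw]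
  inv_mem' := by
    intro g hg w hw
    exact act_inv_of_fix (hg w hw)

theorem normal_fixP {P : Subgroup (SU n F 3)} {W : Submodule F (Fin n → F)}
    (hPW : ∀ g ∈ P, ∀ w ∈ W, act g w ∈ W) : (fixP P W).Normal := by
  constructor
  intro g hg x w hw
  show act ((x : SU n F 3) * (g : SU n F 3) * (x : SU n F 3)⁻¹) w = w
  rw [act_mul, act_mul, hg _ (hPW _ (inv_mem x.2) w hw), act_act_inv]

/-- The maximal invariant totally singular subspace is faithful. -/
theorem exists_sub (hF : Fintype.card F = 9) (P : Subgroup (SU n F 3)) (hP : IsPGroup 5 P) :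
    ∃ W : Submodule F (Fin n → F), (∀ u ∈ W, ∀ v ∈ W, hermForm n F 3 u v = 0) ∧
      (∀ g ∈ P, ∀ w ∈ W, act g w ∈ W) ∧ ∀ s ∈ P, (∀ w ∈ W, act s w = w) → s = 1 := by
  classical
  have : Fact (Nat.Prime 5) := ⟨by norm_num⟩
  have hF' := card_eq hF
  set 𝒮 : Set (Submodule F (Fin n → F)) := {W | (∀ u ∈ W, ∀ v ∈ W, hermForm n F 3 u v = 0) ∧
      (∀ g ∈ P, ∀ w ∈ W, act g w ∈ W)} with h𝒮
  have hne : 𝒮.Nonempty := by
    refine ⟨⊥, fun u hu v _ => ?_, fun g _ w hw => ?_⟩
    · rw [(Submodule.mem_bot F).1 hu, herm_zero_left]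
    · rw [(Submodule.mem_bot F).1 hw, act_zero]; exact Submodule.zero_mem _
  have : Finite (Submodule F (Fin n → F)) :=
    Finite.of_injective (fun W : Submodule F (Fin n → F) => (W : Set (Fin n → F))) SetLike.coe_injective
  obtain ⟨W, hWmax⟩ := (Set.toFinite 𝒮).exists_maximal hne
  obtain ⟨hW, hPW⟩ := hWmax.1
  refine ⟨W, hW, hPW, fun s hs hsW => ?_⟩
  by_contra hs1
  have hN := normal_fixP hPW
  have hN1 : fixP P W ≠ ⊥ := by
    intro hbot
    have h1 : (⟨s, hs⟩ : P) ∈ fixP P W := hsW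
    rw [hbot, Subgroup.mem_bot] at h1
    exact hs1 (congrArg Subtype.val h1)
  obtain ⟨y, hyN, hyc, hy1⟩ := Cfsg.Agent.GTwoFour.Tools.exists_mem_center_of_normal hP (fixP P W) hN1
  -- a power of `y` of order `5`
  obtain ⟨z, hzN, hzc, hz1, hz5⟩ : ∃ z : P, z ∈ fixP P W ∧ z ∈ center P ∧ z ≠ 1 ∧ z ^ 5 = 1 := by
    obtain ⟨k, hk⟩ := hP.exists_orderOf_eq_pow y
    rcases k with _ | k
    · rw [pow_zero, orderOf_eq_one_iff] at hk
      exact absurd hk hy1
    · refine ⟨y ^ 5 ^ k, pow_mem hyN _, pow_mem hyc _, fun h => ?_, ?_⟩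
      · have := orderOf_dvd_of_pow_eq_one h
        rw [hk, Nat.pow_dvd_pow_iff_le_right (by norm_num)] at this
        omega
      · rw [← pow_mul, ← pow_succ, ← hk, pow_orderOf_eq_one]
  have hzc' : ∀ g ∈ P, g * (z : SU n F 3) = z * g := by
    intro g hg
    have := mem_center_iff.1 hzc ⟨g, hg⟩
    exact congrArg Subtype.val this
  have hz5' : (z : SU n F 3) ^ 5 = 1 := congrArg Subtype.val hz5
  have hz1' : (z : SU n F 3) ≠ 1 := fun h => hz1 (Subtype.ext h)
  obtain ⟨c, hc, w, hw, hw0⟩ := exists_eig hF hz5' hz1'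
  have hzW : ∀ u ∈ W, act (z : SU n F 3) u = u := hzN
  have h2W : ∀ u ∈ W, u ∈ eig (z : SU n F 3) 2 := fun u hu => fix_mem_eig (hzW u hu)
  have h1 : ∀ u ∈ W, ∀ v ∈ eig (z : SU n F 3) c, hermForm n F 3 u v = 0 := fun u hu v hv =>
    herm_eig hF (h2W u hu) hv (cube_ne_two hc).symm
  have h2 : ∀ u ∈ eig (z : SU n F 3) c, ∀ v ∈ eig (z : SU n F 3) c, hermForm n F 3 u v = 0 := fun u hu v hv =>
    herm_eig hF hu hv (root_ne hc)
  have hmem : W ⊔ eig (z : SU n F 3) c ∈ 𝒮 := by
    constructor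
    · intro u hu v hv
      obtain ⟨u1, hu1, u2, hu2, rfl⟩ := Submodule.mem_sup.1 hu
      obtain ⟨v1, hv1, v2, hv2, rfl⟩ := Submodule.mem_sup.1 hv
      rw [herm_add_left, herm_add_right hF', herm_add_right hF', hW u1 hu1 v1 hv1, h1 u1 hu1 v2 hv2,
        herm_eq_zero_swap hF' (h1 v1 hv1 u2 hu2), h2 u2 hu2 v2 hv2]
      simp
    · intro g hg u hu
      obtain ⟨u1, hu1, u2, hu2, rfl⟩ := Submodule.mem_sup.1 hu
      rw [act_add]
      refine Submodule.add_mem_sup (hPW g hg u1 hu1) ?_
      rw [mem_eig] at hu2 ⊢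
      have h3 : (z : SU n F 3)⁻¹ * g = g * (z : SU n F 3)⁻¹ := by
        have := hzc' g hg
        rw [inv_mul_eq_iff_eq_mul, ← mul_assoc, ← this, mul_inv_cancel_right]
      rw [← act_mul, ← act_mul, ← hzc' g hg, h3, act_mul, act_mul, ← act_add, hu2, act_smul]
  have hle : W ⊔ eig (z : SU n F 3) c ≤ W := hWmax.2 hmem le_sup_left
  have hwW : w ∈ W := hle (Submodule.mem_sup_right hw)
  have h4 := mem_eig.1 (h2W w hwW)
  rw [mem_eig.1 hw] at h4
  have h5 : (c - 2) • w = 0 := by rw [sub_smul, h4, sub_self]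
  exact root_ne_two hc (sub_eq_zero.1 ((smul_eq_zero.1 h5).resolve_right hw0))

/-- **K7**: `PSU_n(3)` is not a minimal configuration at `(5, 3)`. -/
theorem noP_psu3 (hF : Fintype.card F = 9) (hn : 3 ≤ n) :
    Cfsg.Agent.H838.KW.NoP 5 3 (PSU n F 3) := by
  classical
  have hp5 : Fact (Nat.Prime 5) := ⟨by norm_num⟩
  have hp3 : Fact (Nat.Prime 3) := ⟨by norm_num⟩
  have hF' := card_eq hF
  have hfin : Finite (SU n F 3) := inferInstance
  have hZr : ¬ 3 ∣ Nat.card (center (SU n F 3)) := by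
    rw [Cfsg.Agent.S0279.result hF' n hn]
    intro h
    have h1 : 3 ∣ 3 + 1 := h.trans (Nat.gcd_dvd_right n (3 + 1))
    norm_num at h1
  refine noP_of_central (Z := center (SU n F 3)) hZr fun H hH hrH x hx hxp => ?_
  obtain ⟨P⟩ : Nonempty (Sylow 5 (SU n F 3)) := inferInstance
  obtain ⟨W, hW, hPW, hfaith⟩ := exists_sub hF (P : Subgroup (SU n F 3)) P.isPGroup'
  refine mem_of_normalizes hH hrH P (A := rad 3 W) (isPGroup_rad W) (fun s hs a ha => ?_) (fun s hs hsc => ?_) hx hxp
  · exact conj_mem_rad (hPW s hs) (hPW s⁻¹ (inv_mem hs)) ha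
  · obtain ⟨k, hk⟩ := P.isPGroup' ⟨s, hs⟩
    have hk' : s ^ 5 ^ k = 1 := congrArg Subtype.val hk
    rw [hfaith s hs (fix_of_commute hF hW hk' hsc)]
    exact one_mem _

end three

end Cfsg.Agent.H560.KWPsu3
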