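import Cfsg.Agent.PermutationGroups.AutSL25
import Mathlib

/-!
Small kernel-checked facts about `SL(2,5)`.
-/

set_option autoImplicit false

namespace Cfsg.Agent.H560.SL25Facts

open Cfsg.Agent.PermutationGroups.AutSL25

/-- an element of order four anticommuting with `S` -/
def J : SL25 := ⟨!![2, 0; 0, 3], by decide⟩

theorem relJ : J * J = -1 := by decide +kernel
theorem relJS : J * S = -1 * (S * J) := by decide +kernel
theorem ST_ne : S * T ≠ -1 := by decide +kernel
theorem S_ne : S * S ≠ 1 := by decide +kernel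

set_option maxRecDepth 100000 in
/-- Elements of order five are conjugate to `T` or `T²`. -/
theorem conj_T : ∀ x : SL25, x * x * x * x * x = 1 → x ≠ 1 →
    ∃ g : SL25, g * x = T * g ∨ g * x = T * T * g := by decide +kernel

set_option maxRecDepth 100000 in
/-- The pairs `(s, T)` of the type of `(S, T)` are conjugate to `(S, T)`. -/
theorem conj_S : ∀ s : SL25, s * s = -1 → (s * T) * (s * T) * (s * T) = -1 →
    ∃ k : Fin 5, T ^ k.val * S = s * T ^ k.val := by decide +kernel

theorem relSJ : S * J = J * S⁻¹ := by decide +kernel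

/-- group-theoretic bookkeeping -/
theorem aux_conj {G : Type*} [Group G] {a b y s t : G} {k : ℕ} (hy : y * b = t * y)
    (hk : t ^ k * s = (y * a * y⁻¹) * t ^ k) :
    ((t ^ k)⁻¹ * y) * a = s * ((t ^ k)⁻¹ * y) ∧ ((t ^ k)⁻¹ * y) * b = t * ((t ^ k)⁻¹ * y) := by
  constructor
  · have h1 : s = (t ^ k)⁻¹ * (y * a * y⁻¹) * t ^ k := by
      rw [mul_assoc, ← hk, inv_mul_cancel_left]
    rw [h1]
    group
  · have h1 : t * (t ^ k)⁻¹ = (t ^ k)⁻¹ * t := ((Commute.refl t).pow_right k).inv_right.eq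
    rw [mul_assoc, hy, ← mul_assoc, ← mul_assoc, h1]

theorem aux_sq {G : Type*} [Group G] {a y n : G} (hn : y * n * y⁻¹ = n) (h : a * a = n) :
    (y * a * y⁻¹) * (y * a * y⁻¹) = n := by
  rw [← hn, ← h]
  group

theorem aux_cube {G : Type*} [Group G] {a b y n t : G} (hn : y * n * y⁻¹ = n) (hy : y * b = t * y)
    (h : (a * b) * (a * b) * (a * b) = n) :
    ((y * a * y⁻¹) * t) * ((y * a * y⁻¹) * t) * ((y * a * y⁻¹) * t) = n := by
  have ht : t = y * b * y⁻¹ := by rw [hy, mul_inv_cancel_right]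
  rw [ht, ← hn, ← h]
  group

/-- An automorphism of `SL(2,5)` is inner or maps `T` to a conjugate of `T²`. -/
theorem aut_cases (α : SL25 ≃* SL25) :
    (∃ z : SL25, z * α S = S * z ∧ z * α T = T * z) ∨ (∃ y : SL25, y * α T = T * T * y) := by
  have hαneg : α (-1) = -1 := map_neg_one (α : MulAut SL25)
  obtain ⟨y, hy⟩ := conj_T (α T)
    (by rw [← map_mul, ← map_mul, ← map_mul, ← map_mul, relT, map_one])
    (fun h => T_ne ((MulEquiv.map_eq_one_iff α).1 h))
  rcases hy with hy | hy
  · left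
    have hS2 : α S * α S = -1 := by rw [← map_mul, relS, hαneg]
    have hS3 : (α S * α T) * (α S * α T) * (α S * α T) = -1 := by
      rw [← map_mul, ← map_mul, ← map_mul, relST, hαneg]
    have hneg : y * (-1) * y⁻¹ = -1 := by rw [mul_neg, mul_one, neg_mul, mul_inv_cancel]
    obtain ⟨k', hk'⟩ := conj_S (y * α S * y⁻¹) (aux_sq hneg hS2) (aux_cube hneg hy hS3)
    exact ⟨(T ^ k'.val)⁻¹ * y, aux_conj hy hk'⟩
  · right
    exact ⟨y, hy⟩

end Cfsg.Agent.H560.SL25Facts
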